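import Cfsg.Agent.CharBasic.Complete
import Cfsg.Agent.CharInduce.Ops
import Mathlib.GroupTheory.QuotientGroup.Defs
import Mathlib.FieldTheory.IsAlgClosed.Basic

/-!
# The part of a complex group algebra over an invariant character of a normal subgroup

`IsLift q y`: `y` lies in the block of `θ`, commutes with the normal subgroup and is supported on
the coset `q`.  Such elements are unique up to scalars and an invertible one exists in each coset.
-/

noncomputable section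

namespace Cfsg.Agent.H35.Odd

open Cfsg.Agent.CharBasic
open scoped Classical

universe u

/-- An irreducible character of a normal subgroup, invariant in the whole group. -/
structure InvChar (G : Type u) [Group G] where
  L : Subgroup G
  hn : L.Normal
  θ : L → ℂ
  irr : Cfsg.IsIrrCharacter L θ
  inv : ∀ g : G, ∀ l l' : L, (l' : G) = g * l * g⁻¹ → θ l' = θ l

attribute [instance] InvChar.hn

/-- A group element as an element of the group algebra. -/
abbrev δ {G : Type u} [Group G] (g : G) : MonoidAlgebra ℂ G := MonoidAlgebra.single g (1 : ℂ)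

variable {G : Type u} [Group G]

theorem δ_mul (a b : G) : δ a * δ b = δ (a * b) := by simp [δ]

theorem δ_one : δ (1 : G) = 1 := rfl

theorem coeff_δ_mul (g x : G) (y : MonoidAlgebra ℂ G) : (δ g * y).coeff x = y.coeff (g⁻¹ * x) := by
  rw [δ, MonoidAlgebra.coeff_single_mul_apply, one_mul]

theorem coeff_mul_δ (g x : G) (y : MonoidAlgebra ℂ G) : (y * δ g).coeff x = y.coeff (x * g⁻¹) := by
  conv_lhs => rw [← inv_mul_cancel_right x g]
  rw [δ, MonoidAlgebra.coeff_mul_single_mul, mul_one]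

theorem exists_coeff_ne_of_mul {x y : MonoidAlgebra ℂ G} {g : G} (h : (x * y).coeff g ≠ 0) :
    ∃ a b : G, x.coeff a ≠ 0 ∧ y.coeff b ≠ 0 ∧ a * b = g := by
  by_contra hc
  push Not at hc
  apply h
  rw [MonoidAlgebra.coeff_mul]
  refine Finset.sum_eq_zero fun a ha => Finset.sum_eq_zero fun b hb => ?_
  exact if_neg (hc a b (Finsupp.mem_support_iff.1 ha) (Finsupp.mem_support_iff.1 hb))

variable [Fintype G] (C : InvChar G)

namespace InvChar

theorem sum_conj (g : G) (F : C.L → MonoidAlgebra ℂ G) :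
    ∑ l : C.L, F (MulAut.conjNormal g l) = ∑ l : C.L, F l :=
  Fintype.sum_equiv (MulAut.conjNormal g : MulAut C.L).toEquiv _ _ fun _ => rfl

theorem θ_class (l m : C.L) : C.θ (m * l * m⁻¹) = C.θ l := IsIrr.isClassFunction C.irr l m

theorem θ_comm (l m : C.L) : C.θ (l * m) = C.θ (m * l) := by
  rw [← C.θ_class (l * m) m]; group

theorem θ_conj (g : G) (l : C.L) : C.θ (MulAut.conjNormal g l) = C.θ l :=
  C.inv g l _ (by simp)

theorem θ_one_ne : C.θ 1 ≠ 0 := IsIrr.one_ne_zero C.irr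

theorem card_L_ne : (Nat.card C.L : ℂ) ≠ 0 := Nat.cast_ne_zero.2 Nat.card_pos.ne'

/-- A class function on `L` acts as a scalar in the representation affording `θ`. -/
theorem exists_omega (c : C.L → ℂ) (hc : ∀ l m : C.L, c (m * l * m⁻¹) = c l) :
    ∃ ω : ℂ, ∀ x : C.L, ∑ l : C.L, c l * C.θ (l * x) = ω * C.θ x := by
  obtain ⟨n, ρ, hρ, hχ⟩ := C.irr
  obtain ⟨ω, hω⟩ := schur_scalar ρ (repSum c ρ) (repSum_comm hc ρ)
  refine ⟨ω, fun x => ?_⟩
  have h := congrArg (fun f => LinearMap.trace ℂ _ (f * ρ x)) hω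
  simp only [repSum, Finset.sum_mul, smul_mul_assoc, ← map_mul, map_sum, map_smul,
    smul_eq_mul] at h
  rw [← hχ]
  exact h

/-- The idempotent of `θ`. -/
def e : MonoidAlgebra ℂ G :=
  ∑ l : C.L, (C.θ 1 / (Nat.card C.L : ℂ) * C.θ l⁻¹) • δ (l : G)

theorem coeff_sum_δ (c : C.L → ℂ) (x : G) :
    (∑ l : C.L, c l • δ (l : G)).coeff x = if h : x ∈ C.L then c ⟨x, h⟩ else 0 := by
  rw [MonoidAlgebra.coeff_sum, Finsupp.finsetSum_apply]
  split_ifs with h
  · rw [Finset.sum_eq_single ⟨x, h⟩]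
    · simp [δ, MonoidAlgebra.coeff_single]
    · intro l _ hl
      have hne : (l : G) ≠ x := fun e => hl (Subtype.ext e)
      simp [δ, MonoidAlgebra.coeff_single, Finsupp.single_apply, hne]
    · simp
  · refine Finset.sum_eq_zero fun l _ => ?_
    have hne : (l : G) ≠ x := fun e => h (e ▸ l.2)
    simp [δ, MonoidAlgebra.coeff_single, Finsupp.single_apply, hne]

theorem coeff_e_mem (l : C.L) : C.e.coeff (l : G) = C.θ 1 / (Nat.card C.L : ℂ) * C.θ l⁻¹ := by
  rw [e, coeff_sum_δ, dif_pos l.2]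

theorem coeff_e_not_mem {x : G} (h : x ∉ C.L) : C.e.coeff x = 0 := by
  rw [e, coeff_sum_δ, dif_neg h]

theorem e_ne_zero : C.e ≠ 0 := by
  intro h
  have h1 := C.coeff_e_mem 1
  rw [h, MonoidAlgebra.coeff_zero, Finsupp.zero_apply, inv_one, eq_comm] at h1
  exact mul_ne_zero (div_ne_zero C.θ_one_ne C.card_L_ne) C.θ_one_ne h1

theorem smul_e_inj {a b : ℂ} (h : a • C.e = b • C.e) : a = b := by
  by_contra hne
  refine C.e_ne_zero ?_
  have h2 : (a - b) • C.e = 0 := by rw [sub_smul, h, sub_self]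
  exact (smul_eq_zero.1 h2).resolve_left (sub_ne_zero.2 hne)

theorem δ_mul_e (g : G) : δ g * C.e = C.e * δ g := by
  simp only [e, Finset.mul_sum, Finset.sum_mul, mul_smul_comm, smul_mul_assoc, δ_mul]
  refine Fintype.sum_equiv (MulAut.conjNormal g : MulAut C.L).toEquiv _ _ fun l => ?_
  show _ = (_ * C.θ (MulAut.conjNormal g l)⁻¹) • δ (((MulAut.conjNormal g l : C.L) : G) * g)
  rw [← map_inv, C.θ_conj]
  simp [MulAut.conjNormal_apply]

theorem mul_e_comm (y : MonoidAlgebra ℂ G) : y * C.e = C.e * y := by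
  induction y using MonoidAlgebra.induction_linear with
  | zero => simp
  | add a b ha hb => rw [add_mul, mul_add, ha, hb]
  | single g r =>
    have : MonoidAlgebra.single g r = r • δ g := by simp [δ]
    rw [this, smul_mul_assoc, mul_smul_comm, δ_mul_e]

theorem eq_sum_of_supp {z : MonoidAlgebra ℂ G} (hz : ∀ x, z.coeff x ≠ 0 → x ∈ C.L) :
    z = ∑ l : C.L, z.coeff (l : G) • δ (l : G) := by
  ext x
  rw [coeff_sum_δ]
  split_ifs with h
  · rfl
  · by_contra h'
    exact h (hz x h')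

theorem sum_δ_mul_e (c : C.L → ℂ) :
    (∑ l : C.L, c l • δ (l : G)) * C.e = ∑ x : C.L,
      (∑ l : C.L, c l * (C.θ 1 / (Nat.card C.L : ℂ) * C.θ (l⁻¹ * x)⁻¹)) • δ (x : G) := by
  rw [e, Finset.sum_mul]
  simp only [Finset.sum_smul]
  rw [Finset.sum_comm (γ := C.L)]
  refine Finset.sum_congr rfl fun l _ => ?_
  rw [Finset.mul_sum]
  refine Fintype.sum_equiv (Equiv.mulLeft l) _ _ fun m => ?_
  simp [smul_smul, δ_mul]

theorem scalar_of_class (c : C.L → ℂ) (hc : ∀ l m : C.L, c (m * l * m⁻¹) = c l) :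
    ∃ ω : ℂ, (∑ l : C.L, c l • δ (l : G)) * C.e = ω • C.e ∧
      ω * C.θ 1 = ∑ l : C.L, c l * C.θ l := by
  obtain ⟨ω, hω⟩ := C.exists_omega c hc
  refine ⟨ω, ?_, by simpa using (hω 1).symm⟩
  rw [sum_δ_mul_e, e, Finset.smul_sum]
  refine Finset.sum_congr rfl fun x _ => ?_
  rw [smul_smul]
  congr 1
  calc ∑ l : C.L, c l * (C.θ 1 / (Nat.card C.L : ℂ) * C.θ (l⁻¹ * x)⁻¹)
      = C.θ 1 / (Nat.card C.L : ℂ) * ∑ l : C.L, c l * C.θ (l * x⁻¹) := by
        rw [Finset.mul_sum]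
        refine Finset.sum_congr rfl fun l _ => ?_
        rw [mul_inv_rev, inv_inv, C.θ_comm]
        ring
    _ = _ := by rw [hω]; ring

theorem e_mul_e : C.e * C.e = C.e := by
  have hcl : ∀ l m : C.L, C.θ 1 / (Nat.card C.L : ℂ) * C.θ (m * l * m⁻¹)⁻¹ =
      C.θ 1 / (Nat.card C.L : ℂ) * C.θ l⁻¹ := fun l m => by
    rw [show (m * l * m⁻¹)⁻¹ = m * l⁻¹ * m⁻¹ by group, C.θ_class]
  obtain ⟨ω, hω, hω1⟩ := C.scalar_of_class (fun l => C.θ 1 / (Nat.card C.L : ℂ) * C.θ l⁻¹) hcl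
  have h1 : ∑ l : C.L, C.θ 1 / (Nat.card C.L : ℂ) * C.θ l⁻¹ * C.θ l = C.θ 1 := by
    have h := classInner_irr_self C.irr
    rw [classInner_def] at h
    have h2 : ∑ l : C.L, C.θ 1 / (Nat.card C.L : ℂ) * C.θ l⁻¹ * C.θ l =
        C.θ 1 * ((Nat.card C.L : ℂ)⁻¹ * ∑ l : C.L, C.θ l * starRingEnd ℂ (C.θ l)) := by
      rw [Finset.mul_sum, Finset.mul_sum]
      refine Finset.sum_congr rfl fun l _ => ?_
      rw [IsChar.inv_apply (IsIrr.isCharacter C.irr)]
      ring
    rw [h2, h, mul_one]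
  rw [h1] at hω1
  have : ω = 1 := mul_right_cancel₀ C.θ_one_ne (by rw [hω1, one_mul])
  rw [this, one_smul] at hω
  exact hω

/-- An element supported on `L` which commutes with `L` is a scalar in the block of `θ`. -/
theorem supp_scalar {z : MonoidAlgebra ℂ G} (hz : ∀ x, z.coeff x ≠ 0 → x ∈ C.L)
    (hcomm : ∀ l : C.L, δ (l : G) * z = z * δ (l : G)) :
    ∃ ω : ℂ, z * C.e = ω • C.e ∧ ω * C.θ 1 = ∑ l : C.L, z.coeff (l : G) * C.θ l := by
  have hc : ∀ l m : C.L, z.coeff ((m * l * m⁻¹ : C.L) : G) = z.coeff (l : G) := by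
    intro l m
    have h := congrArg (fun y => y.coeff ((m : G) * l)) (hcomm m)
    simp only [coeff_δ_mul, coeff_mul_δ, inv_mul_cancel_left] at h
    simpa using h.symm
  obtain ⟨ω, h1, h2⟩ := C.scalar_of_class (fun l => z.coeff (l : G)) hc
  rw [← C.eq_sum_of_supp hz] at h1
  exact ⟨ω, h1, h2⟩

/-- `y` lies in the block of `θ`, commutes with `L` and is supported on the coset `q`. -/
structure IsLift (q : G ⧸ C.L) (y : MonoidAlgebra ℂ G) : Prop where
  supp : ∀ x, y.coeff x ≠ 0 → (x : G ⧸ C.L) = q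
  comm : ∀ l : C.L, δ (l : G) * y = y * δ (l : G)
  mul_e : y * C.e = y

variable {C}

theorem IsLift.e_mul {q : G ⧸ C.L} {y : MonoidAlgebra ℂ G} (h : C.IsLift q y) : C.e * y = y := by
  rw [← mul_e_comm, h.mul_e]

theorem IsLift.mul {q r : G ⧸ C.L} {x y : MonoidAlgebra ℂ G} (hx : C.IsLift q x)
    (hy : C.IsLift r y) : C.IsLift (q * r) (x * y) where
  supp g hg := by
    obtain ⟨a, b, ha, hb, rfl⟩ := exists_coeff_ne_of_mul hg
    rw [QuotientGroup.mk_mul, hx.supp a ha, hy.supp b hb]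
  comm l := by rw [← mul_assoc, hx.comm, mul_assoc, hy.comm, mul_assoc]
  mul_e := by rw [mul_assoc, hy.mul_e]

variable (C)

theorem isLift_e : C.IsLift 1 C.e where
  supp x hx := (QuotientGroup.eq_one_iff x).2 (by_contra fun h => hx (C.coeff_e_not_mem h))
  comm _ := C.δ_mul_e _
  mul_e := C.e_mul_e

variable {C}

theorem IsLift.smul {q : G ⧸ C.L} {y : MonoidAlgebra ℂ G} (h : C.IsLift q y) (c : ℂ) :
    C.IsLift q (c • y) where
  supp x hx := h.supp x fun h0 => hx (by simp [h0])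
  comm l := by rw [mul_smul_comm, h.comm, smul_mul_assoc]
  mul_e := by rw [smul_mul_assoc, h.mul_e]

theorem IsLift.eq_scalar {y : MonoidAlgebra ℂ G} (h : C.IsLift 1 y) :
    ∃ ω : ℂ, y = ω • C.e := by
  obtain ⟨ω, h1, -⟩ := C.supp_scalar (fun x hx => (QuotientGroup.eq_one_iff x).1 (h.supp x hx))
    h.comm
  exact ⟨ω, by rwa [h.mul_e] at h1⟩

theorem IsLift.eq_smul {q : G ⧸ C.L} {y u u' : MonoidAlgebra ℂ G} (hy : C.IsLift q y)
    (hu : C.IsLift q u) (hu' : C.IsLift q⁻¹ u') (huu : u' * u = C.e) : ∃ ω : ℂ, y = ω • u := by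
  obtain ⟨ω, hω⟩ := (mul_inv_cancel q ▸ hy.mul hu' : C.IsLift 1 (y * u')).eq_scalar
  refine ⟨ω, ?_⟩
  rw [← hy.mul_e, ← huu, ← mul_assoc, hω, smul_mul_assoc, hu.e_mul]

variable (C)

/-- The averaged element of `g`. -/
def avg (g : G) : MonoidAlgebra ℂ G := ∑ l : C.L, δ ((l : G) * g * (l : G)⁻¹)

theorem avg_supp (g x : G) (hx : (C.avg g).coeff x ≠ 0) : (x : G ⧸ C.L) = g := by
  rw [avg, MonoidAlgebra.coeff_sum, Finsupp.finsetSum_apply] at hx
  obtain ⟨l, -, hl⟩ := Finset.exists_ne_zero_of_sum_ne_zero hx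
  rw [δ, MonoidAlgebra.coeff_single, Finsupp.single_apply] at hl
  have he : (l : G) * g * (l : G)⁻¹ = x := by
    by_contra hne
    simp [hne] at hl
  rw [← he]
  simp [QuotientGroup.mk_mul, (QuotientGroup.eq_one_iff (l : G)).2 l.2]

theorem avg_comm (g : G) (m : C.L) : δ (m : G) * C.avg g = C.avg g * δ (m : G) := by
  simp only [avg, Finset.mul_sum, Finset.sum_mul, δ_mul]
  refine Fintype.sum_equiv (Equiv.mulLeft m) _ _ fun l => ?_
  simp [mul_assoc]

theorem isLift_avg (g : G) : C.IsLift (g : G ⧸ C.L) (C.avg g * C.e) where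
  supp x hx := by
    obtain ⟨a, b, ha, hb, rfl⟩ := exists_coeff_ne_of_mul hx
    rw [QuotientGroup.mk_mul, C.avg_supp g a ha, C.isLift_e.supp b hb, mul_one]
  comm l := by rw [← mul_assoc, C.avg_comm, mul_assoc, C.δ_mul_e, mul_assoc]
  mul_e := by rw [mul_assoc, C.e_mul_e]

theorem exists_avg_mul_ne (g₀ : G) : ∃ g : G, (g : G ⧸ C.L) = g₀ ∧
    ∃ ω : ℂ, ω ≠ 0 ∧ C.avg g * C.avg g⁻¹ * C.e = ω • C.e := by
  have hmem : ∀ g (l m : C.L), (l : G) * g * (l : G)⁻¹ * ((m : G) * g⁻¹ * (m : G)⁻¹) ∈ C.L := by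
    intro g l m
    rw [← QuotientGroup.eq_one_iff]
    simp [QuotientGroup.mk_mul, (QuotientGroup.eq_one_iff (_ : G)).2 l.2,
      (QuotientGroup.eq_one_iff (_ : G)).2 m.2]
  let T : G → ℂ := fun g => ∑ l : C.L, ∑ m : C.L, C.θ ⟨_, hmem g l m⟩
  have hT : ∀ g, ∃ ω : ℂ, C.avg g * C.avg g⁻¹ * C.e = ω • C.e ∧ ω * C.θ 1 = T g := by
    intro g
    have hsupp : ∀ x, (C.avg g * C.avg g⁻¹).coeff x ≠ 0 → x ∈ C.L := by
      intro x hx
      obtain ⟨a, b, ha, hb, rfl⟩ := exists_coeff_ne_of_mul hx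
      rw [← QuotientGroup.eq_one_iff, QuotientGroup.mk_mul, C.avg_supp g a ha,
        C.avg_supp g⁻¹ b hb]
      simp
    obtain ⟨ω, h1, h2⟩ := C.supp_scalar hsupp fun l => by
      rw [← mul_assoc, C.avg_comm, mul_assoc, C.avg_comm, mul_assoc]
    refine ⟨ω, h1, ?_⟩
    rw [h2]
    simp only [avg, Finset.sum_mul, Finset.mul_sum, δ_mul, MonoidAlgebra.coeff_sum,
      Finsupp.finsetSum_apply, T]
    conv_rhs => rw [Finset.sum_comm]
    rw [Finset.sum_comm]
    refine Finset.sum_congr rfl fun l _ => ?_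
    rw [Finset.sum_comm]
    refine Finset.sum_congr rfl fun m _ => ?_
    rw [Finset.sum_eq_single (⟨_, hmem g m l⟩ : C.L)]
    · simp [δ, MonoidAlgebra.coeff_single]
    · intro x _ hx
      have hne : (m : G) * g * (m : G)⁻¹ * ((l : G) * g⁻¹ * (l : G)⁻¹) ≠ (x : G) := fun e =>
        hx (Subtype.ext e.symm)
      simp [δ, MonoidAlgebra.coeff_single, Finsupp.single_apply, hne]
    · simp
  by_contra hcon
  push Not at hcon
  have hzero : ∀ a : C.L, T (g₀ * a) = 0 := by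
    intro a
    obtain ⟨ω, h1, h2⟩ := hT (g₀ * a)
    have hq : ((g₀ * (a : G) : G) : G ⧸ C.L) = g₀ := by
      simp [QuotientGroup.mk_mul, (QuotientGroup.eq_one_iff (a : G)).2 a.2]
    by_contra hne
    have hω : ω ≠ 0 := fun h => hne (by rw [← h2, h, zero_mul])
    exact hcon _ hq ω hω h1
  -- reduce to a single average
  have hcomm : ∀ g : G, ∀ m : C.L, g * m * g⁻¹ * (m : G)⁻¹ ∈ C.L := fun g m =>
    C.L.mul_mem (C.hn.conj_mem _ m.2 g) (C.L.inv_mem m.2)
  let f : G → ℂ := fun g => ∑ m : C.L, C.θ ⟨_, hcomm g m⟩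
  have hTf : ∀ g, T g = (Nat.card C.L : ℂ) * f g := by
    intro g
    have : ∀ l : C.L, ∑ m : C.L, C.θ ⟨_, hmem g l m⟩ = f g := by
      intro l
      refine (Fintype.sum_equiv (Equiv.mulLeft l) _ _ fun m => ?_).symm
      rw [← C.θ_class ⟨_, hcomm g m⟩ l]
      congr 1
      apply Subtype.ext
      simp only [Equiv.coe_mulLeft]
      push_cast
      group
    rw [show T g = ∑ l : C.L, f g from Finset.sum_congr rfl fun l _ => this l, Finset.sum_const,
      Finset.card_univ, nsmul_eq_mul, Nat.card_eq_fintype_card]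
  -- the total over the coset
  have key : ∀ m : C.L, ∑ a : C.L, C.θ ⟨_, hcomm (g₀ * a) m⟩ =
      (Nat.card C.L : ℂ) / C.θ 1 * (C.θ m * C.θ m⁻¹) := by
    intro m
    let c : C.L → ℂ := fun x => ∑ a : C.L, if a * m * a⁻¹ = x then 1 else 0
    have hc : ∀ l k : C.L, c (k * l * k⁻¹) = c l := by
      intro l k
      refine Fintype.sum_equiv (Equiv.mulLeft k⁻¹) _ _ fun a => ?_
      have : (k⁻¹ * a) * m * (k⁻¹ * a)⁻¹ = l ↔ a * m * a⁻¹ = k * l * k⁻¹ := by
        constructor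
        · rintro rfl; group
        · intro h
          rw [show k⁻¹ * a * m * (k⁻¹ * a)⁻¹ = k⁻¹ * (a * m * a⁻¹) * k by group, h]
          group
      simp only [Equiv.coe_mulLeft, this]
    obtain ⟨ω, hω⟩ := C.exists_omega c hc
    have hexp : ∀ y : C.L, ∑ a : C.L, C.θ (a * m * a⁻¹ * y) = ω * C.θ y := by
      intro y
      rw [← hω y]
      simp only [c, Finset.sum_mul, ite_mul, one_mul, zero_mul]
      rw [Finset.sum_comm]
      simp
    have h1 : ω * C.θ 1 = (Nat.card C.L : ℂ) * C.θ m := by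
      rw [← hexp 1]
      simp [C.θ_class, Nat.card_eq_fintype_card]
    let y : C.L := MulAut.conjNormal g₀⁻¹ m⁻¹
    have h2 : ∀ a : C.L, C.θ ⟨_, hcomm (g₀ * a) m⟩ = C.θ (a * m * a⁻¹ * y) := by
      intro a
      rw [← C.θ_conj g₀⁻¹ ⟨_, hcomm (g₀ * a) m⟩]
      congr 1
      apply Subtype.ext
      simp only [y, MulAut.conjNormal_apply]
      push_cast
      simp only [y, MulAut.conjNormal_apply]
      push_cast
      group
    rw [Finset.sum_congr rfl fun a _ => h2 a, hexp]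
    have hy : C.θ y = C.θ m⁻¹ := C.θ_conj _ _
    rw [hy, eq_comm, div_mul_eq_mul_div, div_eq_iff C.θ_one_ne]
    linear_combination -(C.θ m⁻¹) * h1
  have htot : ∑ a : C.L, f (g₀ * a) = (Nat.card C.L : ℂ) / C.θ 1 * (Nat.card C.L : ℂ) := by
    simp only [f]
    rw [Finset.sum_comm]
    simp only [key, ← Finset.mul_sum]
    congr 1
    have h := classInner_irr_self C.irr
    rw [classInner_def, inv_mul_eq_one₀ C.card_L_ne] at h
    rw [h]
    exact Finset.sum_congr rfl fun l _ => by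
      rw [IsChar.inv_apply (IsIrr.isCharacter C.irr)]
  have hf0 : ∑ a : C.L, f (g₀ * a) = 0 := Finset.sum_eq_zero fun a _ => by
    have := hzero a
    rw [hTf] at this
    exact (mul_eq_zero.1 this).resolve_left C.card_L_ne
  rw [hf0] at htot
  exact mul_ne_zero (div_ne_zero C.card_L_ne C.θ_one_ne) C.card_L_ne htot.symm

theorem avg_mul_comm (g : G) {ω : ℂ} (hω : ω ≠ 0) (h : C.avg g * C.avg g⁻¹ * C.e = ω • C.e) :
    C.avg g⁻¹ * C.avg g * C.e = ω • C.e := by
  obtain ⟨w, hw⟩ := (inv_mul_cancel (g : G ⧸ C.L) ▸ (C.isLift_avg g⁻¹).mul (C.isLift_avg g) :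
    C.IsLift 1 ((C.avg g⁻¹ * C.e) * (C.avg g * C.e))).eq_scalar
  have hassoc : ∀ a b : MonoidAlgebra ℂ G, (a * C.e) * (b * C.e) = a * b * C.e := fun a b => by
    rw [mul_assoc a, ← mul_assoc C.e b, ← C.mul_e_comm b, mul_assoc b, C.e_mul_e, mul_assoc]
  rw [hassoc] at hw
  have h1 : C.avg g * C.avg g⁻¹ * C.avg g * C.e = ω • (C.avg g * C.e) := by
    rw [mul_assoc _ (C.avg g), C.mul_e_comm, ← mul_assoc, h, smul_mul_assoc, ← C.mul_e_comm]
  have h2 : C.avg g * C.avg g⁻¹ * C.avg g * C.e = w • (C.avg g * C.e) := by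
    rw [mul_assoc (C.avg g), mul_assoc (C.avg g), hw, mul_smul_comm]
  have hne : C.avg g * C.e ≠ 0 := by
    intro h0
    apply C.e_ne_zero
    have h3 : ω • C.e = 0 := by
      rw [← h, mul_assoc, C.mul_e_comm, ← mul_assoc, h0, zero_mul]
    exact (smul_eq_zero.1 h3).resolve_left hω
  have hwω : w = ω := by
    by_contra hne'
    have h3 : (w - ω) • (C.avg g * C.e) = 0 := by rw [sub_smul, ← h1, ← h2, sub_self]
    exact hne ((smul_eq_zero.1 h3).resolve_left (sub_ne_zero.2 hne'))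
  rw [← hwω]; exact hw

/-- Every coset carries an invertible lift. -/
theorem exists_unit (q : G ⧸ C.L) : ∃ u u' : MonoidAlgebra ℂ G,
    C.IsLift q u ∧ C.IsLift q⁻¹ u' ∧ u * u' = C.e ∧ u' * u = C.e := by
  obtain ⟨g₀, rfl⟩ := QuotientGroup.mk_surjective q
  obtain ⟨g, hg, ω, hω, h⟩ := C.exists_avg_mul_ne g₀
  have h' := C.avg_mul_comm g hω h
  have hassoc : ∀ a b : MonoidAlgebra ℂ G, (a * C.e) * (b * C.e) = a * b * C.e := fun a b => by
    rw [mul_assoc a, ← mul_assoc C.e b, ← C.mul_e_comm b, mul_assoc b, C.e_mul_e, mul_assoc]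
  refine ⟨C.avg g * C.e, ω⁻¹ • (C.avg g⁻¹ * C.e), hg ▸ C.isLift_avg g, ?_, ?_, ?_⟩
  · rw [← hg]; exact (C.isLift_avg g⁻¹).smul _
  · rw [mul_smul_comm, hassoc, h, inv_smul_smul₀ hω]
  · rw [smul_mul_assoc, hassoc, h', inv_smul_smul₀ hω]

end InvChar

end Cfsg.Agent.H35.Odd
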