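import Mathlib.GroupTheory.Commutator.Basic
import Mathlib.GroupTheory.OrderOfElement
import Mathlib.GroupTheory.Subgroup.Center
import Mathlib.Algebra.BigOperators.Group.Finset.Basic
import Mathlib.Tactic.Group

/-!
# The Baer sum on a group of class two and odd exponent
-/

namespace Cfsg.Agent.H35.Odd

open scoped commutatorElement

/-- Class at most two and odd exponent `2 * m - 1`. -/
class ClassTwoOdd (E : Type*) [Group E] where
  /-- The half. -/
  half : ℕ
  half_spec : ∀ x : E, x ^ (2 * half) = x
  comm_central : ∀ x y z : E, ⁅x, y⁆ * z = z * ⁅x, y⁆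

variable {E : Type*} [Group E] [ClassTwoOdd E]

theorem cmul_comm (x y z : E) : ⁅x, y⁆ * z = z * ⁅x, y⁆ := ClassTwoOdd.comm_central x y z

theorem commutator_mul_left (x y z : E) : ⁅x * y, z⁆ = ⁅x, z⁆ * ⁅y, z⁆ := by
  have h : ⁅x * y, z⁆ = x * ⁅y, z⁆ * x⁻¹ * ⁅x, z⁆ := by
    simp only [commutatorElement_def]; group
  rw [h, ← cmul_comm y z x, mul_inv_cancel_right, cmul_comm y z ⁅x, z⁆]

theorem commutator_mul_right (x y z : E) : ⁅x, y * z⁆ = ⁅x, y⁆ * ⁅x, z⁆ := by
  have h : ⁅x, y * z⁆ = ⁅x, y⁆ * (y * ⁅x, z⁆ * y⁻¹) := by
    simp only [commutatorElement_def]; group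
  rw [h, ← cmul_comm x z y, mul_inv_cancel_right]

theorem commutator_central (x y z : E) : ⁅⁅x, y⁆, z⁆ = 1 := by
  rw [commutatorElement_eq_one_iff_mul_comm]
  exact cmul_comm x y z

theorem commutator_central' (x y z : E) : ⁅z, ⁅x, y⁆⁆ = 1 := by
  rw [commutatorElement_eq_one_iff_mul_comm]
  exact (cmul_comm x y z).symm

variable (E)

/-- The square root of the commutator. -/
def beta (x y : E) : E := ⁅y, x⁆ ^ ClassTwoOdd.half E

variable {E}

theorem beta_comm (x y z : E) : Commute (beta E x y) z :=
  Commute.pow_left (cmul_comm y x z) _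

theorem beta_mul_left (x y z : E) : beta E (x * y) z = beta E x z * beta E y z := by
  simp only [beta, commutator_mul_right]
  exact Commute.mul_pow (cmul_comm _ _ _) _

theorem beta_mul_right (x y z : E) : beta E x (y * z) = beta E x y * beta E x z := by
  simp only [beta, commutator_mul_left]
  exact Commute.mul_pow (cmul_comm _ _ _) _

theorem beta_one_left (x : E) : beta E 1 x = 1 := by simp [beta]

theorem beta_one_right (x : E) : beta E x 1 = 1 := by simp [beta]

theorem beta_central_left (a b y : E) : beta E (beta E a b) y = 1 := by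
  simp only [beta]
  rw [commutatorElement_eq_one_iff_mul_comm.2, one_pow]
  exact (beta_comm a b y).symm

theorem beta_central_right (a b y : E) : beta E y (beta E a b) = 1 := by
  simp only [beta]
  rw [commutatorElement_eq_one_iff_mul_comm.2, one_pow]
  exact beta_comm a b y

/-- The Baer sum. -/
def badd (x y : E) : E := x * y * beta E x y

theorem badd_comm (x y : E) : badd x y = badd y x := by
  have h1 : y * x = x * y * ⁅y, x⁆ := by
    rw [← cmul_comm y x (x * y)]
    simp only [commutatorElement_def]; group
  have h2 : beta E y x = (beta E x y)⁻¹ := by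
    simp only [beta]
    rw [← commutatorElement_inv y x, inv_pow]
  have h3 : beta E x y * beta E x y = ⁅y, x⁆ := by
    simp only [beta]
    rw [← pow_add, ← two_mul, ClassTwoOdd.half_spec]
  rw [badd, badd, h1, h2, ← h3]
  group

theorem beta_badd_left (x y z : E) : beta E (badd x y) z = beta E x z * beta E y z := by
  rw [badd, beta_mul_left, beta_central_left, mul_one, beta_mul_left]

theorem beta_badd_right (x y z : E) : beta E x (badd y z) = beta E x y * beta E x z := by
  rw [badd, beta_mul_right, beta_central_right, mul_one, beta_mul_right]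

theorem badd_assoc (x y z : E) : badd (badd x y) z = badd x (badd y z) := by
  have e1 : badd (badd x y) z = x * y * z * beta E x y * (beta E x z * beta E y z) := by
    conv_lhs => rw [badd, beta_badd_left, badd]
    rw [mul_assoc (x * y) (beta E x y) z, (beta_comm x y z).eq, ← mul_assoc (x * y) z]
  have e2 : badd x (badd y z) = x * y * z * beta E y z * (beta E x y * beta E x z) := by
    conv_lhs => rw [badd, beta_badd_right, badd]
    simp only [mul_assoc]
  rw [e1, e2, mul_assoc (x * y * z), mul_assoc (x * y * z)]
  congr 1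
  rw [← mul_assoc, ← (beta_comm y z (beta E x y * beta E x z)).eq]

/-- A type copy carrying the Baer sum. -/
def Baer (E : Type*) : Type _ := E

/-- To the copy. -/
def toB (x : E) : Baer E := x

/-- From the copy. -/
def ofB (x : Baer E) : E := x

noncomputable instance : CommGroup (Baer E) where
  mul x y := toB (badd (ofB x) (ofB y))
  one := toB 1
  inv x := toB (ofB x)⁻¹
  mul_assoc x y z := badd_assoc (ofB x) (ofB y) (ofB z)
  one_mul x := by
    show badd (1 : E) (ofB x) = ofB x
    simp [badd, beta_one_left]
  mul_one x := by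
    show badd (ofB x) (1 : E) = ofB x
    simp [badd, beta_one_right]
  inv_mul_cancel x := by
    show badd (ofB x)⁻¹ (ofB x) = (1 : E)
    have h : ⁅ofB x, (ofB x)⁻¹⁆ = 1 :=
      commutatorElement_eq_one_iff_mul_comm.2 (by simp)
    simp [badd, beta, h]
  mul_comm x y := badd_comm (ofB x) (ofB y)

theorem toB_mul (x y : E) : toB x * toB y = toB (x * y * beta E x y) := rfl

theorem ofB_mul (x y : Baer E) : ofB (x * y) = ofB x * ofB y * beta E (ofB x) (ofB y) := rfl

theorem ofB_one : ofB (1 : Baer E) = 1 := rfl

theorem ofB_inv (x : Baer E) : ofB x⁻¹ = (ofB x)⁻¹ := rfl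

theorem toB_mul_of_commute {x y : E} (h : Commute x y) : toB x * toB y = toB (x * y) := by
  rw [toB_mul, beta, commutatorElement_eq_one_iff_mul_comm.2 h.eq.symm, one_pow, mul_one]

/-- An endomorphism acts on the Baer sum. -/
noncomputable def bMap (f : E →* E) : Baer E →* Baer E where
  toFun x := toB (f (ofB x))
  map_one' := by show toB (f 1) = toB 1; rw [map_one]
  map_mul' x y := by
    show toB (f (ofB (x * y))) = toB (f (ofB x)) * toB (f (ofB y))
    rw [ofB_mul, toB_mul, map_mul, map_mul, beta, beta, map_pow, map_commutatorElement]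

@[simp] theorem ofB_bMap (f : E →* E) (x : Baer E) : ofB (bMap f x) = f (ofB x) := rfl

/-- A homomorphism to a commutative group is additive for the Baer sum. -/
noncomputable def bLift {A : Type*} [CommGroup A] (f : E →* A) : Baer E →* A where
  toFun x := f (ofB x)
  map_one' := by show f 1 = 1; exact map_one f
  map_mul' x y := by
    show f (ofB (x * y)) = f (ofB x) * f (ofB y)
    rw [ofB_mul, map_mul, map_mul, beta, map_pow, map_commutatorElement,
      commutatorElement_eq_one_iff_mul_comm.2 (mul_comm _ _), one_pow, mul_one]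

@[simp] theorem bLift_apply {A : Type*} [CommGroup A] (f : E →* A) (x : Baer E) :
    bLift f x = f (ofB x) := rfl

end Cfsg.Agent.H35.Odd
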