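import Cfsg.Agent.H35.Odd.Algebra
import Cfsg.Agent.H35.Odd.Baer
import Mathlib.Data.Nat.Choose.Basic
import Mathlib.GroupTheory.OrderOfElement

/-!
# Canonical lifts of an abelian section with fixed point free coprime operators
-/

noncomputable section

namespace Cfsg.Agent.H35.Odd

open Cfsg.Agent.CharBasic
open scoped Classical commutatorElement

universe u v

/-- `G = H * K`, `K / L` abelian, the operators fix `H / L` and act on `K / L` without fixed
points, and `θ` is invariant under the group and the operators. -/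
structure Setup (G : Type u) [Group G] [Fintype G] (S : Type v) [Group S]
    extends InvChar G where
  K : Subgroup G
  H : Subgroup G
  hKn : K.Normal
  hLK : L ≤ K
  hLH : L ≤ H
  hinf : ∀ x ∈ K, x ∈ H → x ∈ L
  hgen : ∀ g : G, ∃ h ∈ H, ∃ k ∈ K, g = h * k
  hab : ∀ a ∈ K, ∀ b ∈ K, a * b * a⁻¹ * b⁻¹ ∈ L
  σ : S →* MulAut G
  hLS : ∀ s, ∀ l ∈ L, σ s l ∈ L
  hKS : ∀ s, ∀ k ∈ K, σ s k ∈ K
  hHS : ∀ s, ∀ h ∈ H, h⁻¹ * σ s h ∈ L
  hfix : ∀ k ∈ K, (∀ s, k⁻¹ * σ s k ∈ L) → k ∈ L
  hodd : Odd (Nat.card G)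
  hcop : (Nat.card S).Coprime (Nat.card G)
  θS : ∀ s, ∀ l l' : L, (l' : G) = σ s l → θ l' = θ l

theorem pow_swap {R : Type*} [Ring R] [Algebra ℂ R] {x y : R} {d : ℂ}
    (h : y * x = d • (x * y)) (n : ℕ) : y ^ n * x = d ^ n • (x * y ^ n) := by
  induction n with
  | zero => simp
  | succ n ih =>
    rw [pow_succ, mul_assoc, h, mul_smul_comm, ← mul_assoc, ih, smul_mul_assoc, smul_smul,
      mul_assoc, ← pow_succ, pow_succ' d n]

theorem mul_pow_swap {R : Type*} [Ring R] [Algebra ℂ R] {x y : R} {d : ℂ}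
    (h : y * x = d • (x * y)) (n : ℕ) : (x * y) ^ n = d ^ (n.choose 2) • (x ^ n * y ^ n) := by
  induction n with
  | zero => simp
  | succ n ih =>
    rw [pow_succ, ih, smul_mul_assoc, mul_assoc (x ^ n), ← mul_assoc (y ^ n), pow_swap h n,
      smul_mul_assoc, mul_smul_comm, smul_smul, mul_assoc x, ← pow_succ, ← mul_assoc, ← pow_succ,
      Nat.choose_succ_succ', Nat.choose_one_right, ← pow_add, add_comm n (n.choose 2)]

variable {G : Type u} [Group G] [Fintype G] {S : Type v} [Group S] (D : Setup G S)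

namespace Setup

/-- The exponent used for the lifts. -/
abbrev o : ℕ := Nat.card G

theorem o_pos : 0 < (o (G := G)) := Nat.card_pos

/-- The abelian section. -/
def A : Subgroup (G ⧸ D.L) := D.K.map (QuotientGroup.mk' D.L)

theorem mem_A {q : G ⧸ D.L} : q ∈ D.A ↔ ∃ k ∈ D.K, (k : G ⧸ D.L) = q := Iff.rfl

theorem A_comm {q r : G ⧸ D.L} (hq : q ∈ D.A) (hr : r ∈ D.A) : q * r = r * q := by
  obtain ⟨a, ha, rfl⟩ := hq
  obtain ⟨b, hb, rfl⟩ := hr
  have h : ((a * b * a⁻¹ * b⁻¹ : G) : G ⧸ D.L) = 1 :=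
    (QuotientGroup.eq_one_iff _).2 (D.hab a ha b hb)
  simp only [QuotientGroup.mk_mul, QuotientGroup.mk_inv] at h
  simp only [QuotientGroup.mk'_apply]
  rwa [← mul_inv_eq_one, mul_inv_rev, ← mul_assoc]

instance : CommGroup D.A :=
  { (inferInstance : Group D.A) with
    mul_comm := fun a b => Subtype.ext (D.A_comm a.2 b.2) }

theorem pow_o (q : G ⧸ D.L) : q ^ o (G := G) = 1 := by
  obtain ⟨g, rfl⟩ := QuotientGroup.mk_surjective q
  rw [← QuotientGroup.mk_pow, pow_card_eq_one', QuotientGroup.mk_one]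

theorem pow_o_A (q : D.A) : q ^ o (G := G) = 1 := Subtype.ext (by simpa using D.pow_o q)

theorem e_pow {n : ℕ} (hn : 0 < n) : D.e ^ n = D.e := by
  obtain ⟨m, rfl⟩ := Nat.exists_eq_succ_of_ne_zero hn.ne'
  exact IsIdempotentElem.pow_succ_eq m (show IsIdempotentElem D.e from D.e_mul_e)

theorem isLift_pow {q : G ⧸ D.L} {y : MonoidAlgebra ℂ G} (h : D.IsLift q y) :
    ∀ {n : ℕ}, 0 < n → D.IsLift (q ^ n) (y ^ n) := by
  intro n hn
  induction n with
  | zero => omega
  | succ n ih =>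
    rcases Nat.eq_zero_or_pos n with rfl | hp
    · simpa using h
    · rw [pow_succ, pow_succ]
      exact (ih hp).mul h

theorem two_o_sub : 2 * o (G := G) - 1 + 1 = 2 * o (G := G) := by
  have := o_pos (G := G); omega

/-- An element of exponent `o` in the block has `y ^ (2 o - 1)` as inverse. -/
theorem inv_mul_self {q : G ⧸ D.L} {y : MonoidAlgebra ℂ G} (hy : D.IsLift q y)
    (ho : y ^ o (G := G) = D.e) :
    y ^ (2 * o (G := G) - 1) * y = D.e ∧ y * y ^ (2 * o (G := G) - 1) = D.e ∧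
      D.IsLift q⁻¹ (y ^ (2 * o (G := G) - 1)) := by
  have h2 : y ^ (2 * o (G := G)) = D.e := by rw [two_mul, pow_add, ho, D.e_mul_e]
  refine ⟨by rw [← pow_succ, two_o_sub, h2], by rw [← pow_succ', two_o_sub, h2], ?_⟩
  have hpos := o_pos (G := G)
  have h := D.isLift_pow hy (n := 2 * o (G := G) - 1) (by omega)
  have hq : q ^ (2 * o (G := G) - 1) = q⁻¹ := by
    rw [eq_inv_iff_mul_eq_one, ← pow_succ, two_o_sub, two_mul, pow_add, D.pow_o, one_mul]
  rwa [hq] at h

theorem lift_ne_zero {y : MonoidAlgebra ℂ G} (ho : y ^ o (G := G) = D.e) : y ≠ 0 := fun h =>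
  D.e_ne_zero (by rw [← ho, h, zero_pow (o_pos (G := G)).ne'])

/-- Two commuting classes have lifts commuting up to a root of unity. -/
theorem exists_swap {q r : G ⧸ D.L} (hqr : q * r = r * q) {x y : MonoidAlgebra ℂ G}
    (hx : D.IsLift q x) (hy : D.IsLift r y) (hxo : x ^ o (G := G) = D.e)
    (hyo : y ^ o (G := G) = D.e) :
    ∃ d : ℂ, y * x = d • (x * y) ∧ d ^ o (G := G) = 1 := by
  obtain ⟨hx1, -, hx'⟩ := D.inv_mul_self hx hxo
  obtain ⟨hy1, -, hy'⟩ := D.inv_mul_self hy hyo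
  have hlift : D.IsLift (q * r) (y * x) := hqr ▸ hy.mul hx
  obtain ⟨d, hd⟩ := hlift.eq_smul (hx.mul hy) (u' := y ^ (2 * o (G := G) - 1) *
    x ^ (2 * o (G := G) - 1)) (by rw [mul_inv_rev]; exact hy'.mul hx') (by
      rw [mul_assoc, ← mul_assoc (x ^ _), hx1, hy.e_mul, hy1])
  refine ⟨d, hd, ?_⟩
  have h := pow_swap hd (o (G := G))
  rw [hyo, hx.e_mul, hx.mul_e] at h
  by_contra hne
  have h2 : (1 - d ^ o (G := G)) • x = 0 := by rw [sub_smul, one_smul, ← h, sub_self]
  exact D.lift_ne_zero hxo ((smul_eq_zero.1 h2).resolve_left (sub_ne_zero.2 (Ne.symm hne)))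

include D in
theorem o_dvd_choose : o (G := G) ∣ (o (G := G)).choose 2 := by
  obtain ⟨m, hm⟩ : Odd (o (G := G)) := D.hodd
  rw [Nat.choose_two_right, Nat.mul_div_assoc _ (by omega)]
  exact dvd_mul_right _ _

/-- The group of normalised lifts. -/
def Elt : Type u :=
  {p : D.A × MonoidAlgebra ℂ G //
    D.IsLift (p.1 : G ⧸ D.L) p.2 ∧ p.2 ^ o (G := G) = D.e}

variable {D}

/-- The element of the group algebra. -/
def Elt.val' (x : D.Elt) : MonoidAlgebra ℂ G := (Subtype.val x).2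

/-- The class. -/
def Elt.deg' (x : D.Elt) : D.A := (Subtype.val x).1

theorem Elt.lift (x : D.Elt) : D.IsLift (x.deg' : G ⧸ D.L) x.val' := (Subtype.property x).1

theorem Elt.pow_o (x : D.Elt) : x.val' ^ o (G := G) = D.e := (Subtype.property x).2

theorem Elt.ext' {x y : D.Elt} (h1 : x.deg' = y.deg') (h2 : x.val' = y.val') : x = y :=
  Subtype.ext (Prod.ext h1 h2)

instance : Mul D.Elt where
  mul x y := ⟨(x.deg' * y.deg', x.val' * y.val'), x.lift.mul y.lift, by
    obtain ⟨d, hd, hdo⟩ := D.exists_swap (D.A_comm x.deg'.2 y.deg'.2) x.lift y.lift x.pow_o y.pow_o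
    obtain ⟨c, hc⟩ := D.o_dvd_choose
    show (x.val' * y.val') ^ o (G := G) = D.e
    rw [mul_pow_swap hd, hc, pow_mul, hdo, one_pow, one_smul, x.pow_o, y.pow_o, D.e_mul_e]⟩

instance : One D.Elt where
  one := ⟨(1, D.e), D.isLift_e, D.e_pow (o_pos (G := G))⟩

instance : Inv D.Elt where
  inv x := ⟨(x.deg'⁻¹, x.val' ^ (2 * o (G := G) - 1)), (D.inv_mul_self x.lift x.pow_o).2.2, by
    show (x.val' ^ (2 * o (G := G) - 1)) ^ o (G := G) = D.e
    have hpos := o_pos (G := G)
    rw [← pow_mul, mul_comm, pow_mul, x.pow_o, D.e_pow (by omega)]⟩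

theorem Elt.val'_mul (x y : D.Elt) : (x * y).val' = x.val' * y.val' := rfl
theorem Elt.deg'_mul (x y : D.Elt) : (x * y).deg' = x.deg' * y.deg' := rfl
theorem Elt.val'_one : (1 : D.Elt).val' = D.e := rfl
theorem Elt.deg'_one : (1 : D.Elt).deg' = 1 := rfl
theorem Elt.val'_inv (x : D.Elt) : x⁻¹.val' = x.val' ^ (2 * o (G := G) - 1) := rfl
theorem Elt.deg'_inv (x : D.Elt) : x⁻¹.deg' = x.deg'⁻¹ := rfl

instance : Group D.Elt :=
  Group.ofLeftAxioms
    (fun a b c => Elt.ext' (mul_assoc _ _ _) (mul_assoc _ _ _))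
    (fun a => Elt.ext' (one_mul _) a.lift.e_mul)
    (fun a => Elt.ext' (inv_mul_cancel _) (D.inv_mul_self a.lift a.pow_o).1)

variable (D)

/-- The class, as a homomorphism. -/
def deg : D.Elt →* D.A where
  toFun := Elt.deg'
  map_one' := rfl
  map_mul' _ _ := rfl

@[simp] theorem deg_apply (x : D.Elt) : D.deg x = x.deg' := rfl

variable {D}

theorem Elt.val'_pow (x : D.Elt) (n : ℕ) : (x ^ (n + 1)).val' = x.val' ^ (n + 1) := by
  induction n with
  | zero => simp
  | succ n ih => rw [pow_succ, Elt.val'_mul, ih, ← pow_succ]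

theorem Elt.pow_o_eq_one (x : D.Elt) : x ^ o (G := G) = 1 := by
  refine Elt.ext' ?_ ?_
  · show D.deg (x ^ o (G := G)) = 1
    rw [map_pow]; exact D.pow_o_A _
  · obtain ⟨m, hm⟩ := Nat.exists_eq_succ_of_ne_zero (o_pos (G := G)).ne'
    have h := x.pow_o
    rw [hm] at h
    rw [hm, Elt.val'_pow, h, Elt.val'_one]

theorem exists_scalar {x : D.Elt} (h : x.deg' = 1) : ∃ z : ℂ, x.val' = z • D.e := by
  have hl := x.lift
  rw [h, Subgroup.coe_one] at hl
  exact hl.eq_scalar

/-- The scalar of a lift of the trivial class. -/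
def sc (x : D.Elt) : ℂ := if h : x.deg' = 1 then (exists_scalar h).choose else 1

theorem val'_of_deg {x : D.Elt} (h : x.deg' = 1) : x.val' = sc x • D.e := by
  rw [sc, dif_pos h]
  exact (exists_scalar h).choose_spec

theorem sc_mul {x y : D.Elt} (hx : x.deg' = 1) (hy : y.deg' = 1) : sc (x * y) = sc x * sc y := by
  apply D.smul_e_inj
  rw [← val'_of_deg (by rw [Elt.deg'_mul, hx, hy, one_mul]), Elt.val'_mul, val'_of_deg hx,
    val'_of_deg hy, smul_mul_smul_comm, D.e_mul_e]

theorem sc_one : sc (1 : D.Elt) = 1 := by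
  apply D.smul_e_inj
  rw [← val'_of_deg (x := (1 : D.Elt)) rfl, one_smul, Elt.val'_one]

theorem sc_eq_one {x : D.Elt} (h : x.deg' = 1) (hs : sc x = 1) : x = 1 :=
  Elt.ext' h (by rw [val'_of_deg h, hs, one_smul, Elt.val'_one])

instance : ClassTwoOdd D.Elt where
  half := (o (G := G) + 1) / 2
  half_spec x := by
    obtain ⟨m, hm⟩ : Odd (o (G := G)) := D.hodd
    rw [show 2 * ((o (G := G) + 1) / 2) = o (G := G) + 1 by omega, pow_succ, x.pow_o_eq_one,
      one_mul]
  comm_central x y z := by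
    have h : (⁅x, y⁆).deg' = 1 := by
      show D.deg ⁅x, y⁆ = 1
      rw [map_commutatorElement, commutatorElement_eq_one_iff_mul_comm]
      exact mul_comm _ _
    refine Elt.ext' (mul_comm _ _) ?_
    rw [Elt.val'_mul, Elt.val'_mul, val'_of_deg h, smul_mul_assoc, mul_smul_comm, z.lift.e_mul,
      z.lift.mul_e]

variable (D)

/-- An automorphism preserving all the data. -/
structure Good (α : MulAut G) : Prop where
  hL : ∀ l ∈ D.L, α l ∈ D.L
  hK : ∀ k ∈ D.K, α k ∈ D.K
  hθ : ∀ l l' : D.L, (l' : G) = α l → D.θ l' = D.θ l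

theorem good_σ (s : S) : D.Good (D.σ s) := ⟨D.hLS s, D.hKS s, D.θS s⟩

theorem good_conj (g : G) : D.Good (MulAut.conj g) where
  hL l hl := by simpa using D.hn.conj_mem l hl g
  hK k hk := by simpa using D.hKn.conj_mem k hk g
  hθ l l' h := D.inv g l l' (by simpa using h)

variable {D} {α β : MulAut G}

/-- The restriction to `L`. -/
def Good.equivL (hα : D.Good α) : D.L ≃ D.L :=
  Equiv.ofBijective (fun l => ⟨α l, hα.hL l l.2⟩)
    (Finite.injective_iff_bijective.1 fun a b h =>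
      Subtype.ext (α.injective (congrArg Subtype.val h)))

@[simp] theorem Good.equivL_apply (hα : D.Good α) (l : D.L) : (hα.equivL l : G) = α l := rfl

/-- The induced map of the group algebra. -/
abbrev amap (α : MulAut G) : MonoidAlgebra ℂ G ≃ₐ[ℂ] MonoidAlgebra ℂ G :=
  MonoidAlgebra.domCongr ℂ ℂ α

omit [Fintype G] in
theorem amap_δ (α : MulAut G) (g : G) : amap α (δ g) = δ (α g) :=
  MonoidAlgebra.domCongr_single _ _ _

theorem Good.amap_e (hα : D.Good α) : amap α D.e = D.e := by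
  simp only [InvChar.e, map_sum, map_smul, amap_δ]
  refine Fintype.sum_equiv hα.equivL _ _ fun l => ?_
  rw [hα.equivL_apply]
  congr 2
  exact (hα.hθ l⁻¹ (hα.equivL l)⁻¹ (by simp)).symm

theorem Good.symm_mem (hα : D.Good α) (l : D.L) : α.symm (l : G) ∈ D.L := by
  obtain ⟨m, hm⟩ := hα.equivL.surjective l
  rw [← hm, hα.equivL_apply, MulEquiv.symm_apply_apply]
  exact m.2

/-- The map induced on `G ⧸ L`. -/
def Good.qmap (hα : D.Good α) : G ⧸ D.L →* G ⧸ D.L :=
  QuotientGroup.map D.L D.L (α : G ≃* G).toMonoidHom fun l hl => hα.hL l hl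

@[simp] theorem Good.qmap_mk (hα : D.Good α) (g : G) :
    hα.qmap (g : G ⧸ D.L) = ((α g : G) : G ⧸ D.L) := rfl

theorem Good.qmap_mem (hα : D.Good α) {q : G ⧸ D.L} (hq : q ∈ D.A) : hα.qmap q ∈ D.A := by
  obtain ⟨k, hk, rfl⟩ := hq
  exact ⟨α k, hα.hK k hk, rfl⟩

/-- The map induced on the section. -/
def Good.aq (hα : D.Good α) : D.A →* D.A :=
  (hα.qmap.comp D.A.subtype).codRestrict D.A fun q => hα.qmap_mem q.2

@[simp] theorem Good.aq_coe (hα : D.Good α) (q : D.A) :
    (hα.aq q : G ⧸ D.L) = hα.qmap q := rfl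

theorem Good.isLift (hα : D.Good α) {q : G ⧸ D.L} {y : MonoidAlgebra ℂ G} (hy : D.IsLift q y) :
    D.IsLift (hα.qmap q) (amap α y) where
  supp x hx := by
    rw [amap, MonoidAlgebra.coeff_domCongr] at hx
    rw [← hy.supp _ hx, hα.qmap_mk, MulEquiv.apply_symm_apply]
  comm l := by
    have h : δ (l : G) = amap α (δ (α.symm (l : G))) := by
      rw [amap_δ, MulEquiv.apply_symm_apply]
    rw [h, ← map_mul, ← map_mul, hy.comm ⟨_, hα.symm_mem l⟩]
  mul_e := by rw [← hα.amap_e, ← map_mul, hy.mul_e]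

/-- The action on normalised lifts. -/
def Good.act (hα : D.Good α) : D.Elt →* D.Elt where
  toFun x := ⟨(hα.aq x.deg', amap α x.val'), hα.isLift x.lift, by
    rw [← map_pow, x.pow_o, hα.amap_e]⟩
  map_one' := Elt.ext' (map_one hα.aq) hα.amap_e
  map_mul' x y := Elt.ext' (map_mul hα.aq _ _) (map_mul (amap α) _ _)

@[simp] theorem Good.act_val (hα : D.Good α) (x : D.Elt) :
    (hα.act x).val' = amap α x.val' := rfl

@[simp] theorem Good.act_deg (hα : D.Good α) (x : D.Elt) :
    (hα.act x).deg' = hα.aq x.deg' := rfl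

omit [Fintype G] in
theorem amap_mul (α β : MulAut G) (y : MonoidAlgebra ℂ G) :
    amap (α * β) y = amap α (amap β y) := by
  ext x
  rw [MonoidAlgebra.coeff_domCongr, MonoidAlgebra.coeff_domCongr, MonoidAlgebra.coeff_domCongr]
  rfl

theorem Good.sc_act (hα : D.Good α) {x : D.Elt} (hx : x.deg' = 1) : hα.act x = x := by
  refine Elt.ext' (by rw [hα.act_deg, hx, map_one]) ?_
  rw [hα.act_val, val'_of_deg hx, map_smul, hα.amap_e]

omit [Fintype G] in
theorem amap_conj (g : G) (y : MonoidAlgebra ℂ G) :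
    amap (MulAut.conj g) y = δ g * y * δ g⁻¹ := by
  induction y using MonoidAlgebra.induction_linear with
  | zero => simp
  | add a b ha hb => rw [map_add, ha, hb, mul_add, add_mul]
  | single x r => simp [amap, δ, MonoidAlgebra.domCongr_single]

theorem amap_conj_L (l : D.L) (x : D.Elt) :
    amap (MulAut.conj (l : G)) x.val' = x.val' := by
  rw [amap_conj, x.lift.comm, mul_assoc, δ_mul, mul_inv_cancel, δ_one, mul_one]

variable (D)

/-- `σ s` on lifts. -/
abbrev actS (s : S) : D.Elt →* D.Elt := (D.good_σ s).act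

theorem actS_mul (s t : S) (x : D.Elt) : D.actS (s * t) x = D.actS s (D.actS t x) := by
  have hv : amap (D.σ (s * t)) x.val' = amap (D.σ s) (amap (D.σ t) x.val') := by
    rw [map_mul, amap_mul]
  refine Elt.ext' (Subtype.ext ?_) hv
  obtain ⟨g, hg⟩ := QuotientGroup.mk_surjective (x.deg' : G ⧸ D.L)
  simp only [Good.act_deg, Good.aq_coe, ← hg, Good.qmap_mk, map_mul, MulAut.mul_apply]

theorem actS_conj (s : S) {h : G} (hh : h ∈ D.H) (x : D.Elt) :
    D.actS s ((D.good_conj h).act x) = (D.good_conj h).act (D.actS s x) := by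
  obtain ⟨l, hl, hl'⟩ : ∃ l ∈ D.L, D.σ s h = h * l := ⟨_, D.hHS s h hh, by simp⟩
  have key : amap (D.σ s) (amap (MulAut.conj h) x.val') =
      amap (MulAut.conj h) (amap (MulAut.conj l) (amap (D.σ s) x.val')) := by
    rw [← amap_mul, ← amap_mul, ← amap_mul]
    congr 2
    ext g
    simp [MulAut.mul_apply, hl', mul_assoc]
  refine Elt.ext' (Subtype.ext ?_) ?_
  · obtain ⟨g, hg⟩ := QuotientGroup.mk_surjective (x.deg' : G ⧸ D.L)
    simp only [Good.act_deg, Good.aq_coe, ← hg, Good.qmap_mk, MulAut.conj_apply, map_mul, map_inv,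
      hl', QuotientGroup.mk_mul, QuotientGroup.mk_inv, (QuotientGroup.eq_one_iff l).2 hl]
    group
  · simp only [Good.act_val]
    rw [key]
    congr 1
    exact amap_conj_L ⟨l, hl⟩ (D.actS s x)

variable [Fintype S]

/-- The norm for the Baer sum. -/
def nu : Baer D.Elt →* Baer D.Elt := ∏ s : S, bMap (D.actS s)

theorem nu_apply (x : Baer D.Elt) : D.nu x = ∏ s : S, bMap (D.actS s) x :=
  MonoidHom.finsetProd_apply _ _ _

theorem bMap_nu (t : S) (x : Baer D.Elt) : bMap (D.actS t) (D.nu x) = D.nu x := by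
  rw [nu_apply, map_prod]
  refine Fintype.prod_equiv (Equiv.mulLeft t) _ _ fun s => ?_
  show toB (D.actS t (D.actS s (ofB x))) = toB (D.actS (t * s) (ofB x))
  rw [actS_mul]

theorem nu_bMap (t : S) (x : Baer D.Elt) : D.nu (bMap (D.actS t) x) = D.nu x := by
  rw [nu_apply, nu_apply]
  refine Fintype.prod_equiv (Equiv.mulRight t) _ _ fun s => ?_
  show toB (D.actS s (D.actS t (ofB x))) = toB (D.actS (s * t) (ofB x))
  rw [actS_mul]

theorem nu_conj {h : G} (hh : h ∈ D.H) (x : Baer D.Elt) :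
    D.nu (bMap (D.good_conj h).act x) = bMap (D.good_conj h).act (D.nu x) := by
  rw [nu_apply, nu_apply, map_prod]
  refine Finset.prod_congr rfl fun s _ => ?_
  exact congrArg toB (D.actS_conj s hh (ofB x))

/-- The class for the Baer sum. -/
def bdeg : Baer D.Elt →* D.A := bLift D.deg

theorem bdeg_nu (x : Baer D.Elt) : D.bdeg (D.nu x) = 1 := by
  have hfix : ∀ t, (D.good_σ t).aq (D.bdeg (D.nu x)) = D.bdeg (D.nu x) := by
    intro t
    conv_rhs => rw [← D.bMap_nu t x]
    rfl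
  obtain ⟨k, hk, hkq⟩ := (D.bdeg (D.nu x)).2
  apply Subtype.ext
  rw [← hkq, Subgroup.coe_one, QuotientGroup.mk'_apply, QuotientGroup.eq_one_iff]
  refine D.hfix k hk fun t => ?_
  rw [← QuotientGroup.eq_one_iff, QuotientGroup.mk_mul, QuotientGroup.mk_inv, inv_mul_eq_one]
  have h := congrArg Subtype.val (hfix t)
  rw [Good.aq_coe, ← hkq] at h
  simpa using h.symm

theorem baer_pow (x : Baer D.Elt) (n : ℕ) : x ^ n = toB (ofB x ^ n) := by
  induction n with
  | zero => simp only [pow_zero]; rfl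
  | succ n ih =>
    rw [pow_succ, ih]
    show toB (ofB x ^ n) * toB (ofB x) = _
    rw [toB_mul_of_commute ((Commute.refl (ofB x)).pow_left n), ← pow_succ]

theorem baer_pow_o (x : Baer D.Elt) : x ^ o (G := G) = 1 := by
  rw [baer_pow, Elt.pow_o_eq_one]; rfl

theorem orderOf_coprime (x : Baer D.Elt) : (Fintype.card S).Coprime (orderOf x) :=
  (Nat.card_eq_fintype_card (α := S) ▸ D.hcop).coprime_dvd_right
    (orderOf_dvd_of_pow_eq_one (D.baer_pow_o x))

theorem nu_of_bdeg {x : Baer D.Elt} (hx : D.bdeg x = 1) : D.nu x = x ^ Fintype.card S := by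
  rw [nu_apply, Finset.prod_congr rfl fun s _ => ?_, Finset.prod_const, Finset.card_univ]
  exact congrArg toB ((D.good_σ s).sc_act (x := ofB x) hx)

theorem eq_of_nu {x y : Baer D.Elt} (h : D.bdeg x = D.bdeg y) (hx : D.nu x = 1)
    (hy : D.nu y = 1) : x = y := by
  have hz : D.bdeg (x⁻¹ * y) = 1 := by rw [map_mul, map_inv, h, inv_mul_cancel]
  have hn : D.nu (x⁻¹ * y) = 1 := by rw [map_mul, map_inv, hx, hy, inv_one, one_mul]
  rw [D.nu_of_bdeg hz] at hn
  obtain ⟨m, hm⟩ := exists_pow_eq_self_of_coprime (D.orderOf_coprime (x⁻¹ * y))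
  rw [hn, one_pow, eq_comm, inv_mul_eq_one] at hm
  exact hm

theorem exists_canonical (q : D.A) : ∃ x : Baer D.Elt, D.bdeg x = q ∧ D.nu x = 1 := by
  obtain ⟨u, u', hu, hu', h1, h2⟩ := D.exists_unit (q : G ⧸ D.L)
  have hpos := o_pos (G := G)
  obtain ⟨c, hc⟩ := (D.pow_o q ▸ D.isLift_pow hu hpos : D.IsLift 1 (u ^ o (G := G))).eq_scalar
  have hc0 : c ≠ 0 := by
    rintro rfl
    rw [zero_smul] at hc
    apply D.e_ne_zero
    have hcomm : Commute u u' := h1.trans h2.symm
    calc D.e = (u * u') ^ o (G := G) := by rw [h1, D.e_pow hpos]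
      _ = 0 := by rw [hcomm.mul_pow, hc, zero_mul]
  obtain ⟨z, hz⟩ := IsAlgClosed.exists_pow_nat_eq c⁻¹ hpos
  let x : Baer D.Elt := toB ⟨(q, z • u), hu.smul z, by
    rw [smul_pow, hz, hc, inv_smul_smul₀ hc0]⟩
  have hw : D.bdeg (D.nu x) = 1 := D.bdeg_nu x
  obtain ⟨m, hm⟩ := exists_pow_eq_self_of_coprime (D.orderOf_coprime (D.nu x))
  refine ⟨x * ((D.nu x) ^ m)⁻¹, ?_, ?_⟩
  · rw [map_mul, map_inv, map_pow, hw, one_pow, inv_one, mul_one]
    rfl
  · rw [map_mul, map_inv, map_pow, D.nu_of_bdeg hw, ← pow_mul]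
    conv_lhs => arg 1; rw [← hm]
    rw [← pow_mul, mul_inv_cancel]

/-- The canonical lift, additive for the Baer sum. -/
def can : D.A →* Baer D.Elt where
  toFun q := (D.exists_canonical q).choose
  map_one' := D.eq_of_nu (by rw [(D.exists_canonical 1).choose_spec.1, map_one])
    (D.exists_canonical 1).choose_spec.2 (map_one _)
  map_mul' q r := D.eq_of_nu
    (by rw [map_mul, (D.exists_canonical _).choose_spec.1, (D.exists_canonical q).choose_spec.1,
      (D.exists_canonical r).choose_spec.1])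
    (D.exists_canonical _).choose_spec.2
    (by rw [map_mul, (D.exists_canonical q).choose_spec.2, (D.exists_canonical r).choose_spec.2,
      mul_one])

theorem bdeg_can (q : D.A) : D.bdeg (D.can q) = q := (D.exists_canonical q).choose_spec.1

theorem nu_can (q : D.A) : D.nu (D.can q) = 1 := (D.exists_canonical q).choose_spec.2

theorem bMap_can_σ (t : S) (q : D.A) :
    bMap (D.actS t) (D.can q) = D.can ((D.good_σ t).aq q) := by
  refine D.eq_of_nu ?_ (by rw [nu_bMap, nu_can]) (D.nu_can _)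
  rw [bdeg_can]
  exact congrArg (D.good_σ t).aq (D.bdeg_can q)

theorem bMap_can_conj {h : G} (hh : h ∈ D.H) (q : D.A) :
    bMap (D.good_conj h).act (D.can q) = D.can ((D.good_conj h).aq q) := by
  refine D.eq_of_nu ?_ (by rw [D.nu_conj hh, nu_can, map_one]) (D.nu_can _)
  rw [bdeg_can]
  exact congrArg (D.good_conj h).aq (D.bdeg_can q)

/-- The canonical lift in the group algebra. -/
def V (q : D.A) : MonoidAlgebra ℂ G := (ofB (D.can q)).val'

theorem isLift_V (q : D.A) : D.IsLift (q : G ⧸ D.L) (D.V q) := by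
  have h := (ofB (D.can q)).lift
  have h2 : (ofB (D.can q)).deg' = q := D.bdeg_can q
  rwa [h2] at h

theorem V_one : D.V 1 = D.e := by rw [V, map_one]; rfl

/-- The factor set. -/
def eta (q r : D.A) : ℂ := sc (beta D.Elt (ofB (D.can q)) (ofB (D.can r)))⁻¹

theorem deg_beta (x y : D.Elt) : (beta D.Elt x y).deg' = 1 := by
  show D.deg (beta D.Elt x y) = 1
  rw [beta, map_pow, map_commutatorElement, commutatorElement_eq_one_iff_mul_comm.2 (mul_comm _ _),
    one_pow]

theorem deg_beta_inv (x y : D.Elt) : (beta D.Elt x y)⁻¹.deg' = 1 := by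
  rw [Elt.deg'_inv, deg_beta, inv_one]

theorem V_mul (q r : D.A) : D.V q * D.V r = D.eta q r • D.V (q * r) := by
  have h : ofB (D.can (q * r)) * (beta D.Elt (ofB (D.can q)) (ofB (D.can r)))⁻¹ =
      ofB (D.can q) * ofB (D.can r) := by
    rw [map_mul, ofB_mul, mul_inv_cancel_right]
  have h2 := congrArg Elt.val' h
  rw [Elt.val'_mul, Elt.val'_mul, val'_of_deg (D.deg_beta_inv _ _), mul_smul_comm,
    (ofB (D.can (q * r))).lift.mul_e] at h2
  exact h2.symm

theorem eta_mul_left (q q' r : D.A) : D.eta (q * q') r = D.eta q r * D.eta q' r := by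
  simp only [eta, map_mul, ofB_mul, beta_mul_left, beta_central_left, mul_one]
  rw [← sc_mul (D.deg_beta_inv _ _) (D.deg_beta_inv _ _), ← mul_inv_rev]
  congr 2
  exact (beta_comm _ _ _).eq

theorem eta_mul_right (q r r' : D.A) : D.eta q (r * r') = D.eta q r * D.eta q r' := by
  simp only [eta, map_mul, ofB_mul, beta_mul_right, beta_central_right, mul_one]
  rw [← sc_mul (D.deg_beta_inv _ _) (D.deg_beta_inv _ _), ← mul_inv_rev]
  congr 2
  exact (beta_comm _ _ _).eq

theorem eta_one_left (r : D.A) : D.eta 1 r = 1 := by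
  simp [eta, ofB_one, beta_one_left, sc_one]

theorem eta_one_right (r : D.A) : D.eta r 1 = 1 := by
  simp [eta, ofB_one, beta_one_right, sc_one]

theorem eta_self (q : D.A) : D.eta q q = 1 := by simp [eta, beta, sc_one]

theorem eta_ne (q r : D.A) : D.eta q r ≠ 0 := fun h => by
  have h1 : D.eta (q * q⁻¹) r = 0 := by rw [eta_mul_left, h, zero_mul]
  rw [mul_inv_cancel, eta_one_left] at h1
  exact one_ne_zero h1

theorem eta_swap (q r : D.A) : D.eta q r * D.eta r q = 1 := by
  have h := D.eta_self (q * r)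
  rw [eta_mul_left, eta_mul_right, eta_mul_right, eta_self, eta_self] at h
  simpa using h

theorem eta_inv_right (q r : D.A) : D.eta q r⁻¹ = D.eta r q := by
  have h : D.eta q (r * r⁻¹) = 1 := by rw [mul_inv_cancel, eta_one_right]
  rw [eta_mul_right] at h
  exact mul_left_cancel₀ (D.eta_ne q r) (h.trans (D.eta_swap q r).symm)

theorem eta_inv_left (q r : D.A) : D.eta q⁻¹ r = D.eta r q := by
  have h : D.eta (q * q⁻¹) r = 1 := by rw [mul_inv_cancel, eta_one_left]
  rw [eta_mul_left] at h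
  exact mul_left_cancel₀ (D.eta_ne q r) (h.trans (D.eta_swap q r).symm)

theorem eta_pow_o (q r : D.A) : D.eta q r ^ o (G := G) = 1 := by
  have h : ∀ n : ℕ, D.eta (q ^ n) r = D.eta q r ^ n := by
    intro n
    induction n with
    | zero => simp [eta_one_left]
    | succ n ih => rw [pow_succ, pow_succ, eta_mul_left, ih]
  rw [← h, D.pow_o_A, eta_one_left]

theorem eta_sq_eq_one {q r : D.A} (h : D.eta q r = D.eta r q) : D.eta q r = 1 := by
  have h2 : D.eta q r ^ 2 = 1 := by rw [sq]; nth_rw 2 [h]; exact D.eta_swap q r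
  obtain ⟨m, hm⟩ : Odd (o (G := G)) := D.hodd
  have h3 := D.eta_pow_o q r
  rwa [hm, pow_succ, pow_mul, h2, one_pow, one_mul] at h3

theorem amap_V {α : MulAut G} (hα : D.Good α)
    (h : ∀ q, bMap hα.act (D.can q) = D.can (hα.aq q)) (q : D.A) :
    amap α (D.V q) = D.V (hα.aq q) :=
  congrArg (fun x => (ofB x).val') (h q)

theorem eta_aq {α : MulAut G} (hα : D.Good α)
    (h : ∀ q, bMap hα.act (D.can q) = D.can (hα.aq q)) (q r : D.A) :
    D.eta (hα.aq q) (hα.aq r) = D.eta q r := by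
  simp only [eta, ← h, ofB_bMap]
  rw [beta, ← map_commutatorElement, ← map_pow, ← map_inv, hα.sc_act]
  · rfl
  · exact D.deg_beta_inv _ _

/-- The radical. -/
def P : Subgroup D.A where
  carrier := {q | ∀ r, D.eta r q = 1}
  one_mem' r := D.eta_one_right r
  mul_mem' {a b} ha hb r := by rw [eta_mul_right, ha r, hb r, one_mul]
  inv_mem' {a} ha r := by
    have := D.eta_swap r a
    rw [ha r, one_mul] at this
    rw [eta_inv_right, this]

theorem mem_P {q : D.A} : q ∈ D.P ↔ ∀ r, D.eta r q = 1 := Iff.rfl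

theorem eta_P_left {p : D.A} (hp : p ∈ D.P) (r : D.A) : D.eta p r = 1 := by
  have := D.eta_swap p r
  rwa [hp r, mul_one] at this

theorem sum_eta (w : D.A) :
    ∑ q : D.A, D.eta q w = if w ∈ D.P then (Fintype.card D.A : ℂ) else 0 := by
  split_ifs with hw
  · rw [Finset.sum_congr rfl fun q _ => hw q]
    simp
  · rw [mem_P] at hw
    push Not at hw
    obtain ⟨r, hr⟩ := hw
    have h : D.eta r w * ∑ q : D.A, D.eta q w = ∑ q : D.A, D.eta q w := by
      rw [Finset.mul_sum]
      exact Fintype.sum_equiv (Equiv.mulLeft r) _ _ fun q => by simp [eta_mul_left]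
    by_contra hne
    exact hr ((mul_eq_right₀ hne).1 h)

/-- The sum of all canonical lifts. -/
def T₀ : MonoidAlgebra ℂ G := ∑ q : D.A, D.V q

theorem T₀_mul_T₀ :
    D.T₀ * D.T₀ = (Fintype.card D.A : ℂ) • ∑ p : D.P, D.V (p : D.A) := by
  have h1 : D.T₀ * D.T₀ = ∑ w : D.A, (∑ q : D.A, D.eta q w) • D.V w := by
    simp only [Finset.sum_smul]
    rw [Finset.sum_comm, T₀, Finset.sum_mul_sum]
    refine Finset.sum_congr rfl fun q _ => ?_
    refine Fintype.sum_equiv (Equiv.mulLeft q) _ _ fun r => ?_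
    simp [V_mul, eta_mul_right, eta_self]
  rw [h1, Finset.smul_sum, ← Finset.sum_subtype (Finset.univ.filter (· ∈ D.P))
    (fun x => by simp) (fun p => (Fintype.card D.A : ℂ) • D.V p), Finset.sum_filter]
  refine Finset.sum_congr rfl fun w _ => ?_
  rw [sum_eta]
  split_ifs <;> simp

theorem T₀_mul_V (a : D.A) : D.T₀ * D.V a = D.V a⁻¹ * D.T₀ := by
  simp only [T₀, Finset.sum_mul, Finset.mul_sum, V_mul]
  rw [← Equiv.sum_comp (Equiv.mulRight a⁻¹) (fun q => D.eta q a • D.V (q * a)),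
    ← Equiv.sum_comp (Equiv.mulLeft a) (fun q => D.eta a⁻¹ q • D.V (a⁻¹ * q))]
  refine Finset.sum_congr rfl fun w _ => ?_
  simp [eta_mul_left, eta_mul_right, eta_self, eta_inv_left, mul_comm w]

theorem sum_aq {α : MulAut G} (hα : D.Good α) (f : D.A → MonoidAlgebra ℂ G) :
    ∑ q : D.A, f (hα.aq q) = ∑ q : D.A, f q := by
  have hinj : Function.Injective hα.aq := by
    intro a b h
    apply Subtype.ext
    obtain ⟨x, hx⟩ := QuotientGroup.mk_surjective (a : G ⧸ D.L)
    obtain ⟨y, hy⟩ := QuotientGroup.mk_surjective (b : G ⧸ D.L)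
    have h' := congrArg Subtype.val h
    rw [Good.aq_coe, Good.aq_coe, ← hx, ← hy, Good.qmap_mk, Good.qmap_mk, QuotientGroup.eq,
      ← map_inv, ← map_mul] at h'
    rw [← hx, ← hy, QuotientGroup.eq]
    have h'' := hα.symm_mem ⟨_, h'⟩
    simpa using h''
  exact (Finite.injective_iff_bijective.1 hinj).sum_comp f

end Setup

end Cfsg.Agent.H35.Odd
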