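import Cfsg.Agent.H35.Odd.Trace
import Cfsg.Agent.CharInduce.Transport
import Mathlib.LinearAlgebra.PID

/-!
# The correspondence over an invariant character
-/

noncomputable section

namespace Cfsg.Agent.H35.Odd

open Cfsg.Agent.CharBasic Cfsg.Agent.CharInduce
open scoped Classical ComplexConjugate

universe u v

variable {G : Type u} [Group G] [Fintype G]

/-- Linear extension of a function on `G` to the group algebra. -/
def ev (χ : G → ℂ) (y : MonoidAlgebra ℂ G) : ℂ := ∑ g : G, y.coeff g * χ g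

theorem ev_add_left (χ χ' : G → ℂ) (y : MonoidAlgebra ℂ G) :
    ev (χ + χ') y = ev χ y + ev χ' y := by
  simp [ev, mul_add, Finset.sum_add_distrib]

theorem ev_smul (χ : G → ℂ) (c : ℂ) (y : MonoidAlgebra ℂ G) : ev χ (c • y) = c * ev χ y := by
  simp [ev, Finset.mul_sum, mul_assoc]

theorem ev_δ (χ : G → ℂ) (g : G) : ev χ (δ g) = χ g := by
  simp [ev, δ, MonoidAlgebra.coeff_single, Finsupp.single_apply]

theorem ev_add (χ : G → ℂ) (y z : MonoidAlgebra ℂ G) : ev χ (y + z) = ev χ y + ev χ z := by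
  simp [ev, add_mul, Finset.sum_add_distrib]

theorem ev_zero (χ : G → ℂ) : ev χ 0 = 0 := by simp [ev]

theorem ev_sum (χ : G → ℂ) {κ : Type*} (s : Finset κ) (f : κ → MonoidAlgebra ℂ G) :
    ev χ (∑ i ∈ s, f i) = ∑ i ∈ s, ev χ (f i) := by
  induction s using Finset.induction with
  | empty => simp [ev_zero]
  | insert a s ha ih => rw [Finset.sum_insert ha, Finset.sum_insert ha, ev_add, ih]

theorem ev_amap (χ : G → ℂ) (α : MulAut G) (y : MonoidAlgebra ℂ G) :
    ev χ (Setup.amap α y) = ev (fun g => χ (α g)) y := by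
  refine (Fintype.sum_equiv α.toEquiv _ _ fun g => ?_).symm
  simp [Setup.amap, MonoidAlgebra.coeff_domCongr]

section Rep

variable {n : ℕ} (ρ : Representation ℂ G (Fin n → ℂ))

/-- The algebra map of a representation. -/
def endRep : MonoidAlgebra ℂ G →ₐ[ℂ] Module.End ℂ (Fin n → ℂ) :=
  MonoidAlgebra.lift ℂ (Module.End ℂ (Fin n → ℂ)) G ρ

/-- The matrix form. -/
def matRep : MonoidAlgebra ℂ G →ₐ[ℂ] Matrix (Fin n) (Fin n) ℂ :=
  (LinearMap.toMatrixAlgEquiv' : _ ≃ₐ[ℂ] Matrix (Fin n) (Fin n) ℂ).toAlgHom.comp (endRep ρ)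

theorem endRep_δ (g : G) : endRep ρ (δ g) = ρ g := by
  simp [endRep, δ]

theorem trace_endRep (y : MonoidAlgebra ℂ G) :
    LinearMap.trace ℂ _ (endRep ρ y) = ev ρ.character y := by
  induction y using MonoidAlgebra.induction_linear with
  | zero => rw [map_zero, map_zero, ev_zero]
  | add a b ha hb => rw [map_add, map_add, ev_add, ha, hb]
  | single g r =>
    rw [show MonoidAlgebra.single g r = r • δ g by simp [δ], map_smul, map_smul, endRep_δ, ev_smul,
      ev_δ]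
    rfl

theorem tr_matRep (y : MonoidAlgebra ℂ G) : Setup.tr (matRep ρ) y = ev ρ.character y := by
  rw [← trace_endRep, Setup.tr, LinearMap.trace_eq_matrix_trace ℂ (Pi.basisFun ℂ (Fin n))]
  rfl

theorem matRep_eq_one {y : MonoidAlgebra ℂ G} (h : endRep ρ y = 1) : matRep ρ y = 1 := by
  simp [matRep, h]

theorem isProj_range {q : Module.End ℂ (Fin n → ℂ)} (hq : q * q = q) :
    LinearMap.IsProj (LinearMap.range q) q :=
  ⟨fun x => LinearMap.mem_range_self q x, by
    rintro _ ⟨y, rfl⟩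
    exact LinearMap.congr_fun hq y⟩

theorem eq_one_of_trace {q : Module.End ℂ (Fin n → ℂ)} (hq : q * q = q)
    (h : LinearMap.trace ℂ _ q = (n : ℂ)) : q = 1 := by
  have ht := (isProj_range hq).trace
  rw [h, Nat.cast_inj] at ht
  have htop : LinearMap.range q = ⊤ := Submodule.eq_top_of_finrank_eq (by simp [← ht])
  exact LinearMap.ext fun x => (isProj_range hq).map_id x (htop ▸ trivial)

theorem trace_ne_zero {q : Module.End ℂ (Fin n → ℂ)} (hq : q * q = q) (h : q ≠ 0) :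
    LinearMap.trace ℂ _ q ≠ 0 := by
  rw [(isProj_range hq).trace, Nat.cast_ne_zero]
  intro h0
  exact h (LinearMap.range_eq_bot.1 (Submodule.finrank_eq_zero.1 h0))

theorem central_dichotomy [ρ.IsIrreducible] {q : MonoidAlgebra ℂ G} (hq : q * q = q)
    (hc : ∀ g, δ g * q = q * δ g) : endRep ρ q = 0 ∨ endRep ρ q = 1 := by
  obtain ⟨c, hcq⟩ := schur_scalar ρ (endRep ρ q) fun g => by
    rw [← endRep_δ ρ g, ← map_mul, ← map_mul, hc]
  have hcq' : endRep ρ q = c • (1 : Module.End ℂ (Fin n → ℂ)) := hcq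
  have h := congrArg (endRep ρ) hq
  rw [map_mul, hcq', smul_mul_smul_comm, one_mul] at h
  haveI := nontrivial_of_isIrreducible ρ
  have hcc : c * c = c := by
    have h2 := congrArg (LinearMap.trace ℂ (Fin n → ℂ)) h
    rw [map_smul, map_smul, LinearMap.trace_one, smul_eq_mul, smul_eq_mul] at h2
    have hpos := finrank_pos_of_isIrreducible ρ
    exact mul_right_cancel₀ (Nat.cast_ne_zero.2 hpos.ne') h2
  rcases eq_or_ne c 0 with h0 | h0
  · left; rw [hcq', h0, zero_smul]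
  · right; rw [hcq', mul_eq_right₀ h0 |>.1 hcc, one_smul]

theorem isCharacter_idem {X : Type*} [Group X] (ρX : Representation ℂ X (Fin n → ℂ))
    {q : Module.End ℂ (Fin n → ℂ)} (hq : q * q = q) (hc : ∀ x, ρX x * q = q * ρX x) :
    Cfsg.IsCharacter X fun x => LinearMap.trace ℂ _ (ρX x * q) := by
  let W : Subrepresentation ρX := ⟨LinearMap.range q, fun x v hv => by
    obtain ⟨y, rfl⟩ := hv
    exact ⟨ρX x y, (LinearMap.congr_fun (hc x) y).symm⟩⟩
  have h : (fun x => LinearMap.trace ℂ _ (ρX x * q)) = W.toRepresentation.character := by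
    funext x
    have hmem : ∀ v, (ρX x * q) v ∈ LinearMap.range q := fun v => by
      rw [hc x]
      exact LinearMap.mem_range_self q _
    rw [← LinearMap.trace_restrict_eq_of_forall_mem (LinearMap.range q) (ρX x * q) hmem]
    show _ = LinearMap.trace ℂ _ (W.toRepresentation x)
    congr 1
    refine LinearMap.ext fun v => Subtype.ext ?_
    show (ρX x * q) (v : Fin n → ℂ) = ρX x v
    rw [Module.End.mul_apply, (isProj_range hq).map_id _ v.2]
  exact h ▸ isCharacter_character W.toRepresentation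

end Rep

variable {S : Type v} [Group S] [Fintype S] (D : Setup G S)

namespace Setup

/-- Restriction to `H`. -/
def resH (χ : G → ℂ) : D.H → ℂ := fun h => χ h

/-- `χ` lies over `θ`. -/
def Over (χ : G → ℂ) : Prop := Cfsg.classInner (fun l : D.L => χ l) D.θ ≠ 0

/-- A function on `H` restricted to `L`. -/
def resL (η : D.H → ℂ) : D.L → ℂ := fun l => η ⟨l, D.hLH l.2⟩

/-- `η` lies over `θ`. -/
def OverH (η : D.H → ℂ) : Prop := Cfsg.classInner (D.resL η) D.θ ≠ 0

/-- Invariance under the operators. -/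
def SInv (χ : G → ℂ) : Prop := ∀ s g, χ (D.σ s g) = χ g

/-- Invariance under the operators, on `H`. -/
def SInvH (η : D.H → ℂ) : Prop := ∀ s, ∀ h h' : D.H, (h' : G) = D.σ s h → η h' = η h

/-- The virtual character attached to `χ`. -/
def psi (χ : G → ℂ) : D.H → ℂ := fun h => ev χ (D.T * δ (h : G))

/-- The radical acts trivially. -/
def Triv (χ : G → ℂ) : Prop := ev χ D.e₁ = χ 1

theorem ev_e (χ : G → ℂ) : ev χ D.e = D.θ 1 * Cfsg.classInner (fun l : D.L => χ l) D.θ := by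
  simp only [InvChar.e, ev_sum, ev_smul, ev_δ, classInner_def, Finset.mul_sum]
  refine Finset.sum_congr rfl fun l _ => ?_
  rw [IsChar.inv_apply (IsIrr.isCharacter D.irr)]
  ring

theorem exists_matRep {χ : G → ℂ} (h : Cfsg.IsCharacter G χ) (ht : D.Triv χ) :
    ∃ (n : ℕ) (ρ : Representation ℂ G (Fin n → ℂ)),
      ρ.character = χ ∧ endRep ρ D.e₁ = 1 := by
  obtain ⟨n, ρ, rfl⟩ := h
  refine ⟨n, ρ, rfl, eq_one_of_trace (by rw [← map_mul, D.e₁_mul_e₁]) ?_⟩
  rw [trace_endRep, ht]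
  simp

theorem psi_split {χ : G → ℂ} (h : Cfsg.IsCharacter G χ) (ht : D.Triv χ) :
    ∃ a b : D.H → ℂ, Cfsg.IsCharacter D.H a ∧ Cfsg.IsCharacter D.H b ∧
      D.resH χ = a + b ∧ D.psi χ = a - b := by
  obtain ⟨n, ρ, rfl, he⟩ := D.exists_matRep h ht
  let t := endRep ρ D.T
  have ht2 : t * t = 1 := by rw [← map_mul, D.T_mul_T, he]
  let ρH : Representation ℂ D.H (Fin n → ℂ) := ρ.comp D.H.subtype
  have hcomm : ∀ x : D.H, ρH x * t = t * ρH x := by
    intro x
    show ρ (x : G) * t = t * ρ (x : G)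
    rw [← endRep_δ ρ, ← map_mul, ← map_mul, D.δ_H_T x.2]
  let qp : Module.End ℂ (Fin n → ℂ) := (2 : ℂ)⁻¹ • (1 + t)
  let qm : Module.End ℂ (Fin n → ℂ) := (2 : ℂ)⁻¹ • (1 - t)
  have hp : qp * qp = qp := by
    simp only [qp, smul_mul_smul_comm]
    rw [show (1 + t) * (1 + t) = (2 : ℂ) • (1 + t) by
      rw [two_smul, add_mul, mul_add, mul_add, ht2, one_mul, one_mul, mul_one]; abel, smul_smul]
    congr 1
    norm_num
  have hm : qm * qm = qm := by
    simp only [qm, smul_mul_smul_comm]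
    rw [show (1 - t) * (1 - t) = (2 : ℂ) • (1 - t) by
      rw [two_smul, sub_mul, mul_sub, mul_sub, ht2, one_mul, one_mul, mul_one]; abel, smul_smul]
    congr 1
    norm_num
  have hcp : ∀ x, ρH x * qp = qp * ρH x := fun x => by
    simp only [qp, mul_smul_comm, smul_mul_assoc, mul_add, add_mul, mul_one, one_mul, hcomm x]
  have hcm : ∀ x, ρH x * qm = qm * ρH x := fun x => by
    simp only [qm, mul_smul_comm, smul_mul_assoc, mul_sub, sub_mul, mul_one, one_mul, hcomm x]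
  refine ⟨_, _, isCharacter_idem ρH hp hcp, isCharacter_idem ρH hm hcm, ?_, ?_⟩
  · funext x
    simp only [Pi.add_apply, ← map_add, ← mul_add, qp, qm, ← smul_add]
    rw [show (1 + t) + (1 - t) = (2 : ℂ) • (1 : Module.End ℂ (Fin n → ℂ)) by rw [two_smul]; abel,
      inv_smul_smul₀ two_ne_zero, mul_one]
    rfl
  · funext x
    have hdiff : qp - qm = t := by
      refine LinearMap.ext fun v => funext fun i => ?_
      simp [qp, qm]
      ring
    simp only [Pi.sub_apply, ← map_sub, ← mul_sub, hdiff]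
    show ev ρ.character (D.T * δ (x : G)) = LinearMap.trace ℂ _ (ρ (x : G) * t)
    rw [← trace_endRep, map_mul, endRep_δ, LinearMap.trace_mul_comm]

theorem norm_psi {χ : G → ℂ} (h : Cfsg.IsCharacter G χ) (ht : D.Triv χ) :
    Cfsg.classInner (D.psi χ) (D.psi χ) = Cfsg.classInner χ χ := by
  obtain ⟨a, b, ha, hb, -, hab⟩ := D.psi_split h ht
  obtain ⟨n, ρ, hρ, he⟩ := D.exists_matRep h ht
  have hn := D.norm_tr (matRep ρ) (matRep_eq_one ρ he)
  simp only [tr_matRep, hρ, ev_δ] at hn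
  rw [classInner_def, classInner_def]
  convert hn using 1
  · congr 1
    refine Finset.sum_congr rfl fun x _ => ?_
    congr 1
    have hinv : conj (D.psi χ x) = D.psi χ x⁻¹ := by
      simp [hab, IsChar.inv_apply ha, IsChar.inv_apply hb]
    rw [hinv]
    rfl
  · congr 1
    refine Finset.sum_congr rfl fun x _ => ?_
    rw [IsChar.inv_apply h]

theorem resL_multiple {χ : G → ℂ} (hχ : Cfsg.IsIrrCharacter G χ) (ho : D.Over χ)
    {μ : D.L → ℂ} (hμ : Cfsg.IsIrrCharacter D.L μ)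
    (hne : Cfsg.classInner (fun l : D.L => χ l) μ ≠ 0) : μ = D.θ := by
  obtain ⟨x, hx⟩ := exists_conjFun_eq_of_constituent D.L hχ D.irr hμ ho hne
  rw [hx]
  funext l
  rw [conjFun_eq_comp]
  exact D.θ_conj x l

theorem over_of_triv {χ : G → ℂ} (h : Cfsg.IsIrrCharacter G χ) (ht : D.Triv χ) : D.Over χ := by
  obtain ⟨n, ρ, hρ, he⟩ := D.exists_matRep (IsIrr.isCharacter h) ht
  have hee : endRep ρ D.e = 1 := by
    have h1 := congrArg (endRep ρ) D.e₁_mul_e
    rwa [map_mul, he, one_mul] at h1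
  intro h0
  have h1 := D.ev_e χ
  rw [h0, mul_zero, ← hρ, ← trace_endRep, hee, LinearMap.trace_one] at h1
  have hn : (n : ℂ) ≠ 0 := by
    have := IsIrr.one_ne_zero h
    rw [← hρ] at this
    simpa using this
  simp at h1
  exact hn (by exact_mod_cast h1)

/-- The structure of the restriction to `H`. -/
theorem exists_eta {χ : G → ℂ} (h : Cfsg.IsIrrCharacter G χ) (ht : D.Triv χ) :
    ∃ η : Cfsg.IrrCharacter D.H, D.OverH η ∧ (η : D.H → ℂ) 1 =
        Cfsg.classInner (D.resL η) D.θ * D.θ 1 ∧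
      (D.psi χ = η ∨ D.psi χ = -(η : D.H → ℂ)) ∧
      (∃ m : ℕ, Cfsg.classInner (D.resH χ) η = m ∧ Odd m) ∧
      ∀ η' : Cfsg.IrrCharacter D.H,
        (∃ m : ℕ, Cfsg.classInner (D.resH χ) η' = m ∧ Odd m) → η' = η := by
  have hc := IsIrr.isCharacter h
  obtain ⟨a, b, ha, hb, hab, hψ⟩ := D.psi_split hc ht
  have hgen : Cfsg.IsGeneralizedCharacter D.H (D.psi χ) := hψ ▸ ⟨a, b, ha, hb, rfl⟩
  obtain ⟨η, hη⟩ := IsGen.eq_irr_or_neg hgen (by rw [D.norm_psi hc ht, classInner_irr_self h])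
  have hkey : ∀ η' : Cfsg.IrrCharacter D.H, ∃ m k : ℕ,
      Cfsg.classInner (D.resH χ) η' = m ∧
      ((η' = η → (m = 2 * k + 1 ∨ m + 1 = 2 * k)) ∧ (η' ≠ η → m = 2 * k)) := by
    intro η'
    obtain ⟨i, hi⟩ := classInner_isChar_nat ha (IsIrr.isCharacter η'.2)
    obtain ⟨j, hj⟩ := classInner_isChar_nat hb (IsIrr.isCharacter η'.2)
    refine ⟨i + j, j, by rw [hab, classInner_add_left, hi, hj, Nat.cast_add], ?_⟩
    have hd : Cfsg.classInner (D.psi χ) η' = (i : ℂ) - j := by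
      rw [hψ, classInner_sub_left, hi, hj]
    constructor
    · rintro rfl
      rcases hη with hη | hη <;> rw [hη] at hd
      · rw [classInner_irr_self η'.2, eq_sub_iff_add_eq] at hd
        have : 1 + j = i := by exact_mod_cast hd
        left; omega
      · rw [classInner_neg_left, classInner_irr_self η'.2, eq_sub_iff_add_eq] at hd
        have h2 : (j : ℂ) = ((i + 1 : ℕ) : ℂ) := by push_cast; linear_combination hd
        rw [Nat.cast_inj] at h2
        right; omega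
    · intro hne
      have h0 : Cfsg.classInner (D.psi χ) η' = 0 := by
        have h1 := classInner_irr_of_ne η.2 η'.2 fun e => hne (Subtype.ext e.symm)
        rcases hη with hη | hη <;> rw [hη]
        · exact h1
        · rw [classInner_neg_left, h1, neg_zero]
      rw [h0, eq_comm, sub_eq_zero, Nat.cast_inj] at hd
      omega
  obtain ⟨m, k, hm, hmk, -⟩ := hkey η
  have hodd : Odd m := by
    rcases hmk rfl with h' | h'
    · exact ⟨k, h'⟩
    · exact ⟨k - 1, by omega⟩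
  have hne : Cfsg.classInner (D.resH χ) (η : D.H → ℂ) ≠ 0 := by
    rw [hm, Nat.cast_ne_zero]
    rintro rfl
    exact (Nat.not_odd_zero hodd).elim
  obtain ⟨r, hr, her⟩ := IsChar.exists_eq_add (IsChar.res hc D.H) η.2 hne
  have hsplit : (fun l : D.L => χ l) = D.resL η + D.resL r := by
    funext l
    exact congrFun her ⟨l, D.hLH l.2⟩
  have hηL : Cfsg.IsCharacter D.L (D.resL η) :=
    IsChar.comp (IsIrr.isCharacter η.2) (Subgroup.inclusion D.hLH)
  have hrL : Cfsg.IsCharacter D.L (D.resL r) := IsChar.comp hr (Subgroup.inclusion D.hLH)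
  have hmult : ∀ μ : Cfsg.IrrCharacter D.L, (μ : D.L → ℂ) ≠ D.θ →
      Cfsg.classInner (D.resL η) μ = 0 := by
    intro μ hμ
    obtain ⟨i, hi⟩ := classInner_isChar_nat hηL (IsIrr.isCharacter μ.2)
    obtain ⟨j, hj⟩ := classInner_isChar_nat hrL (IsIrr.isCharacter μ.2)
    by_contra hi0
    refine hμ (D.resL_multiple h (D.over_of_triv h ht) μ.2 ?_)
    rw [hsplit, classInner_add_left, hi, hj, ← Nat.cast_add, Nat.cast_ne_zero]
    have hi1 : i ≠ 0 := fun e => hi0 (by rw [hi, e, Nat.cast_zero])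
    omega
  have hexp : D.resL η = Cfsg.classInner (D.resL η) D.θ • D.θ := by
    conv_lhs => rw [classFunction_expansion (IsChar.isClassFunction hηL)]
    rw [Finset.sum_eq_single ⟨D.θ, D.irr⟩]
    · intro μ _ hμ
      rw [hmult μ fun e => hμ (Subtype.ext e), zero_smul]
    · simp
  have hdeg : (η : D.H → ℂ) 1 = Cfsg.classInner (D.resL η) D.θ * D.θ 1 := congrFun hexp 1
  refine ⟨η, fun h0 => IsIrr.one_ne_zero η.2 (by rw [hdeg, h0, zero_mul]), hdeg, hη,
    ⟨m, hm, hodd⟩, fun η' hodd' => ?_⟩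
  obtain ⟨m', hm', hodd'⟩ := hodd'
  obtain ⟨m₁, k₁, hm₁, -, hk₁⟩ := hkey η'
  by_contra hne'
  have : m' = m₁ := by exact_mod_cast hm'.symm.trans hm₁
  subst this
  rw [hk₁ hne'] at hodd'
  exact (Nat.not_odd_iff_even.2 (even_two_mul k₁)) hodd'

theorem psi_add (χ χ' : G → ℂ) : D.psi (χ + χ') = D.psi χ + D.psi χ' :=
  funext fun _ => ev_add_left _ _ _

/-- Distinct characters have distinct images. -/
theorem eta_inj {χ χ' : G → ℂ} (h : Cfsg.IsIrrCharacter G χ) (h' : Cfsg.IsIrrCharacter G χ')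
    (ht : D.Triv χ) (ht' : D.Triv χ') (η : Cfsg.IrrCharacter D.H)
    (hm : ∃ m : ℕ, Cfsg.classInner (D.resH χ) η = m ∧ Odd m)
    (hm' : ∃ m : ℕ, Cfsg.classInner (D.resH χ') η = m ∧ Odd m) : χ = χ' := by
  by_contra hne
  obtain ⟨η₁, -, -, hs, -, hu⟩ := D.exists_eta h ht
  obtain ⟨η₂, -, -, hs', -, hu'⟩ := D.exists_eta h' ht'
  rw [← hu η hm] at hs
  rw [← hu' η hm'] at hs'
  have hadd := IsChar.add (IsIrr.isCharacter h) (IsIrr.isCharacter h')
  have htr : D.Triv (χ + χ') := by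
    rw [Triv, ev_add_left, ht, ht']
    rfl
  have hn := D.norm_psi hadd htr
  rw [psi_add, classInner_add_left, classInner_add_right, classInner_add_right,
    classInner_add_left, classInner_add_right, classInner_add_right, classInner_irr_self h,
    classInner_irr_self h', classInner_irr_of_ne h h' hne,
    classInner_irr_of_ne h' h (Ne.symm hne)] at hn
  rcases hs with e | e <;> rcases hs' with e' | e' <;> rw [e, e'] at hn <;>
    simp [classInner_neg_left, classInner_neg_right, classInner_irr_self η.2] at hn <;>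
    norm_num at hn

theorem aq_comm_conj (s : S) {h : G} (hh : h ∈ D.H) (q : D.A) :
    (D.good_σ s).aq ((D.good_conj h).aq q) = (D.good_conj h).aq ((D.good_σ s).aq q) := by
  have h1 := congrArg Elt.deg' (D.actS_conj s hh (ofB (D.can q)))
  simp only [Good.act_deg] at h1
  rwa [show (ofB (D.can q)).deg' = q from D.bdeg_can q] at h1

theorem V_P_mul (p q : D.P) : D.V (p : D.A) * D.V (q : D.A) = D.V ((p * q : D.P) : D.A) := by
  rw [V_mul, q.2, one_smul]
  rfl

/-- The idempotent of a linear character of the radical. -/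
def eps (μ : D.P →* ℂˣ) : MonoidAlgebra ℂ G :=
  (Fintype.card D.P : ℂ)⁻¹ • ∑ p : D.P, ((μ p⁻¹ : ℂˣ) : ℂ) • D.V (p : D.A)

theorem eps_mul_V (μ : D.P →* ℂˣ) (p : D.P) :
    D.eps μ * D.V (p : D.A) = ((μ p : ℂˣ) : ℂ) • D.eps μ := by
  rw [eps, smul_mul_assoc, Finset.sum_mul, smul_comm _ (Fintype.card D.P : ℂ)⁻¹, Finset.smul_sum
    (r := ((μ p : ℂˣ) : ℂ))]
  congr 1
  refine Fintype.sum_equiv (Equiv.mulRight p) _ _ fun q => ?_
  rw [Equiv.coe_mulRight, smul_mul_assoc, V_P_mul, smul_smul]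
  congr 1
  rw [mul_inv_rev, map_mul, Units.val_mul, ← mul_assoc, ← Units.val_mul, ← map_mul, mul_inv_cancel,
    map_one, Units.val_one, one_mul]

theorem eps_mul_eps (μ ν : D.P →* ℂˣ) :
    D.eps μ * D.eps ν = if μ = ν then D.eps μ else 0 := by
  have hν := fun p => (IsChar.inv_apply (IsIrr.isCharacter (isIrrCharacter_hom ν)) p : _)
  have h1 : D.eps μ * D.eps ν =
      (Cfsg.classInner (fun p => (μ p : ℂ)) fun p => (ν p : ℂ)) • D.eps μ := by
    conv_lhs => arg 2; rw [eps]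
    rw [mul_smul_comm, Finset.mul_sum, classInner_def, Nat.card_eq_fintype_card,
      ← smul_smul, Finset.sum_smul]
    congr 1
    refine Finset.sum_congr rfl fun p _ => ?_
    rw [mul_smul_comm, eps_mul_V, smul_smul, hν p, mul_comm]
  rw [h1, classInner_irr (isIrrCharacter_hom μ) (isIrrCharacter_hom ν)]
  have hiff : ((fun p => (μ p : ℂ)) = fun p => (ν p : ℂ)) ↔ μ = ν :=
    ⟨fun e => MonoidHom.ext fun p => Units.ext (congrFun e p), fun e => by rw [e]⟩
  by_cases he : μ = ν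
  · rw [if_pos (hiff.2 he), if_pos he, one_smul]
  · rw [if_neg (mt hiff.1 he), if_neg he, zero_smul]

theorem eps_one : D.eps 1 = D.e₁ := by simp [eps, e₁]

theorem δ_K_eps {k : G} (hk : k ∈ D.K) (μ : D.P →* ℂˣ) : δ k * D.eps μ = D.eps μ * δ k := by
  rw [eps, mul_smul_comm, smul_mul_assoc, Finset.mul_sum, Finset.sum_mul]
  refine congrArg _ (Finset.sum_congr rfl fun p _ => ?_)
  rw [mul_smul_comm, smul_mul_assoc, D.δ_K_V hk p.2]

/-- The action induced on the radical. -/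
def pmap {α : MulAut G} (hα : D.Good α)
    (h : ∀ q, bMap hα.act (D.can q) = D.can (hα.aq q)) : D.P →* D.P :=
  (hα.aq.comp D.P.subtype).codRestrict D.P fun p => D.aq_mem_P hα h p.2

theorem pmap_bijective {α : MulAut G} (hα : D.Good α)
    (h : ∀ q, bMap hα.act (D.can q) = D.can (hα.aq q)) : Function.Bijective (D.pmap hα h) :=
  Finite.injective_iff_bijective.1 fun _ _ e => Subtype.ext
    ((Finite.injective_iff_surjective.2 (D.aq_surjective hα)) (congrArg Subtype.val e))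

theorem amap_eps {α : MulAut G} (hα : D.Good α)
    (h : ∀ q, bMap hα.act (D.can q) = D.can (hα.aq q)) (μ : D.P →* ℂˣ) :
    amap α (D.eps (μ.comp (D.pmap hα h))) = D.eps μ := by
  rw [eps, map_smul, map_sum, eps]
  congr 1
  refine Fintype.sum_equiv (Equiv.ofBijective _ (D.pmap_bijective hα h)) _ _ fun p => ?_
  rw [map_smul, D.amap_V hα h, Equiv.ofBijective_apply, MonoidHom.comp_apply, map_inv (D.pmap hα h)]
  rfl

/-- Conjugation by `H` on the radical. -/
def cP (x : D.H) : D.P →* D.P := D.pmap (D.good_conj (x : G)) (D.bMap_can_conj x.2)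

/-- The operators on the radical. -/
def dP (s : S) : D.P →* D.P := D.pmap (D.good_σ s) (D.bMap_can_σ s)

theorem cP_coe (x : D.H) (p : D.P) :
    ((D.cP x p : D.P) : D.A) = (D.good_conj (x : G)).aq (p : D.A) := rfl

theorem dP_coe (s : S) (p : D.P) : ((D.dP s p : D.P) : D.A) = (D.good_σ s).aq (p : D.A) := rfl

theorem dP_cP (s : S) (x : D.H) (p : D.P) : D.dP s (D.cP x p) = D.cP x (D.dP s p) :=
  Subtype.ext (D.aq_comm_conj s x.2 p)

theorem cP_mk (x : D.H) (p : D.P) (y : G) (hy : (y : G ⧸ D.L) = ((p : D.A) : G ⧸ D.L)) :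
    (((D.cP x p : D.P) : D.A) : G ⧸ D.L) = (((x : G) * y * (x : G)⁻¹ : G) : G ⧸ D.L) := by
  rw [cP_coe, Good.aq_coe, ← hy, Good.qmap_mk, MulAut.conj_apply]

theorem cP_mul (x y : D.H) (p : D.P) : D.cP (x * y) p = D.cP x (D.cP y p) := by
  refine Subtype.ext (Subtype.ext ?_)
  obtain ⟨g, hg⟩ := QuotientGroup.mk_surjective ((p : D.A) : G ⧸ D.L)
  rw [D.cP_mk _ _ g hg, D.cP_mk _ _ _ (D.cP_mk y p g hg).symm]
  congr 1
  rw [Subgroup.coe_mul]
  group

theorem cP_one (p : D.P) : D.cP 1 p = p := by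
  refine Subtype.ext (Subtype.ext ?_)
  obtain ⟨g, hg⟩ := QuotientGroup.mk_surjective ((p : D.A) : G ⧸ D.L)
  rw [D.cP_mk _ _ g hg]
  simpa using hg

theorem dP_mul (s t : S) (p : D.P) : D.dP (s * t) p = D.dP s (D.dP t p) := by
  refine Subtype.ext ?_
  have := congrArg Elt.deg' (D.actS_mul s t (ofB (D.can (p : D.A))))
  simp only [Good.act_deg] at this
  rwa [show (ofB (D.can (p : D.A))).deg' = (p : D.A) from D.bdeg_can _] at this

theorem dP_one (p : D.P) : D.dP 1 p = p := by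
  refine (D.pmap_bijective (D.good_σ 1) (D.bMap_can_σ 1)).1 ?_
  show D.dP 1 (D.dP 1 p) = D.dP 1 p
  rw [← dP_mul, one_mul]

theorem orbit_central (lam : D.P →* ℂˣ) (g : G) :
    δ g * (∑ μ ∈ Finset.univ.image (fun x : D.H => lam.comp (D.cP x)), D.eps μ) =
      (∑ μ ∈ Finset.univ.image (fun x : D.H => lam.comp (D.cP x)), D.eps μ) * δ g := by
  obtain ⟨x, hx, k, hk, rfl⟩ := D.hgen g
  set O := Finset.univ.image fun x : D.H => lam.comp (D.cP x) with hO
  have hK : δ k * (∑ μ ∈ O, D.eps μ) = (∑ μ ∈ O, D.eps μ) * δ k := by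
    rw [Finset.mul_sum, Finset.sum_mul]
    exact Finset.sum_congr rfl fun μ _ => D.δ_K_eps hk μ
  have hH : δ x * (∑ μ ∈ O, D.eps μ) = (∑ μ ∈ O, D.eps μ) * δ x := by
    refine comm_of_amap_conj ?_
    let x' : D.H := ⟨x, hx⟩
    have hcc : ∀ ν : D.P →* ℂˣ, (ν.comp (D.cP x'⁻¹)).comp (D.cP x') = ν := fun ν =>
      MonoidHom.ext fun p => by
        rw [MonoidHom.comp_apply, MonoidHom.comp_apply, ← cP_mul, inv_mul_cancel, cP_one]
    have hcc' : ∀ ν : D.P →* ℂˣ, (ν.comp (D.cP x')).comp (D.cP x'⁻¹) = ν := fun ν =>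
      MonoidHom.ext fun p => by
        rw [MonoidHom.comp_apply, MonoidHom.comp_apply, ← cP_mul, mul_inv_cancel, cP_one]
    rw [map_sum]
    refine Finset.sum_nbij' (fun ν => ν.comp (D.cP x'⁻¹)) (fun ν => ν.comp (D.cP x'))
      ?_ ?_ (fun ν _ => hcc ν) (fun ν _ => hcc' ν) ?_
    · intro μ hμ
      obtain ⟨y, -, rfl⟩ := Finset.mem_image.1 hμ
      exact Finset.mem_image.2 ⟨y * x'⁻¹, Finset.mem_univ _,
        MonoidHom.ext fun p => congrArg lam (D.cP_mul _ _ p)⟩
    · intro μ hμ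
      obtain ⟨y, -, rfl⟩ := Finset.mem_image.1 hμ
      exact Finset.mem_image.2 ⟨y * x', Finset.mem_univ _,
        MonoidHom.ext fun p => congrArg lam (D.cP_mul _ _ p)⟩
    · intro ν _
      conv_lhs => rw [← hcc ν]
      exact D.amap_eps (D.good_conj x) (D.bMap_can_conj hx) (ν.comp (D.cP x'⁻¹))
  rw [← δ_mul, mul_assoc, hK, ← mul_assoc, hH, mul_assoc]

/-- An invariant character over `θ` is trivial on the radical. -/
theorem triv_of_inv {χ : G → ℂ} (h : Cfsg.IsIrrCharacter G χ) (ho : D.Over χ) (hs : D.SInv χ) :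
    D.Triv χ := by
  have hev : ev χ D.e ≠ 0 := by
    rw [ev_e]; exact mul_ne_zero D.θ_one_ne ho
  obtain ⟨n, ρ, hρirr, rfl⟩ := h
  have hE : endRep ρ D.e = 1 :=
    (central_dichotomy ρ D.e_mul_e D.δ_mul_e).resolve_left fun h0 => hev (by
      rw [← trace_endRep, h0, map_zero])
  let π : Representation ℂ D.P (Fin n → ℂ) :=
    { toFun := fun p => endRep ρ (D.V (p : D.A))
      map_one' := by rw [OneMemClass.coe_one, V_one, hE]
      map_mul' := fun p q => by rw [← map_mul, V_P_mul] }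
  have hf : Cfsg.IsCharacter D.P π.character := isCharacter_character π
  have hnpos : 0 < n := by simpa using finrank_pos_of_isIrreducible ρ
  have hn : (n : ℂ) ≠ 0 := Nat.cast_ne_zero.2 hnpos.ne'
  have hf0 : π.character ≠ 0 := fun h0 => by
    have h1 := congrFun h0 1
    simp at h1
    exact hn (by exact_mod_cast h1)
  have hεtr : ∀ μ : D.P →* ℂˣ,
      ev ρ.character (D.eps μ) = Cfsg.classInner π.character fun p => (μ p : ℂ) := by
    intro μ
    rw [eps, ev_smul, ev_sum, classInner_def, Nat.card_eq_fintype_card]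
    refine congrArg _ (Finset.sum_congr rfl fun p _ => ?_)
    rw [ev_smul, IsChar.inv_apply (IsIrr.isCharacter (isIrrCharacter_hom μ)),
      ← trace_endRep, mul_comm]
    rfl
  have hεne : ∀ μ : D.P →* ℂˣ,
      endRep ρ (D.eps μ) ≠ 0 ↔ ev ρ.character (D.eps μ) ≠ 0 := by
    intro μ
    rw [← trace_endRep]
    refine ⟨fun h0 => trace_ne_zero (by rw [← map_mul, eps_mul_eps, if_pos rfl]) h0, fun h0 h1 => ?_⟩
    exact h0 (by rw [h1, map_zero])
  obtain ⟨lam0, hlam0⟩ := exists_constituent hf hf0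
  obtain ⟨lam, hlam⟩ := IsChar.exists_hom_of_degree_one (IsIrr.isCharacter lam0.2)
    (IsIrr.degree_one_of_comm (fun a b => mul_comm a b) lam0.2)
  have hlam_ne : endRep ρ (D.eps lam) ≠ 0 := by
    rw [hεne, hεtr, ← funext hlam]
    exact hlam0
  set O := Finset.univ.image fun x : D.H => lam.comp (D.cP x) with hO
  have hlamO : lam ∈ O := Finset.mem_image.2
    ⟨1, Finset.mem_univ _, MonoidHom.ext fun p => congrArg lam (D.cP_one p)⟩
  have hEμ : ∀ μ, (∑ ν ∈ O, D.eps ν) * D.eps μ = if μ ∈ O then D.eps μ else 0 := by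
    intro μ
    rw [Finset.sum_mul, Finset.sum_congr rfl fun ν _ => D.eps_mul_eps ν μ, Finset.sum_ite_eq']
  have hEidem : (∑ ν ∈ O, D.eps ν) * (∑ ν ∈ O, D.eps ν) = ∑ ν ∈ O, D.eps ν := by
    rw [Finset.mul_sum]
    exact Finset.sum_congr rfl fun μ hμ => by rw [hEμ, if_pos hμ]
  have hE1 : endRep ρ (∑ ν ∈ O, D.eps ν) = 1 :=
    (central_dichotomy ρ hEidem (D.orbit_central lam)).resolve_left fun h0 => by
      apply hlam_ne
      have h1 := congrArg (endRep ρ) (hEμ lam)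
      rw [if_pos hlamO, map_mul, h0, zero_mul] at h1
      exact h1.symm
  have hmemO : ∀ μ : D.P →* ℂˣ, endRep ρ (D.eps μ) ≠ 0 → μ ∈ O := by
    intro μ hμ
    by_contra hO'
    apply hμ
    have h1 := congrArg (endRep ρ) (hEμ μ)
    rw [if_neg hO', map_mul, hE1, one_mul, map_zero] at h1
    exact h1
  have hsO : ∀ s, ∃ x : D.H, ∀ p, lam (D.dP s p) = lam (D.cP x p) := by
    intro s
    have hev2 : ev ρ.character (D.eps lam) = ev ρ.character (D.eps (lam.comp (D.dP s))) := by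
      rw [← D.amap_eps (D.good_σ s) (D.bMap_can_σ s) lam, ev_amap,
        show (fun g => ρ.character (D.σ s g)) = ρ.character from funext (hs s)]
      rfl
    have hne : endRep ρ (D.eps (lam.comp (D.dP s))) ≠ 0 := by
      rw [hεne, ← hev2, ← hεne]; exact hlam_ne
    obtain ⟨x, -, hx⟩ := Finset.mem_image.1 (hmemO _ hne)
    exact ⟨x, fun p => (DFunLike.congr_fun hx p).symm⟩
  have hsfix : ∀ s p, lam (D.dP s p) = lam p := by
    intro s
    obtain ⟨x, hx⟩ := hsO s
    have hj : ∀ j : ℕ, ∀ p, lam (D.dP (s ^ j) p) = lam (D.cP (x ^ j) p) := by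
      intro j
      induction j with
      | zero => intro p; rw [pow_zero, pow_zero, cP_one, dP_one]
      | succ j ih =>
        intro p
        rw [pow_succ, pow_succ', dP_mul, ih, ← dP_cP, hx, cP_mul]
    have h1 : ∀ p, lam (D.dP (s ^ o (G := G)) p) = lam p := by
      intro p
      have hxo : x ^ o (G := G) = 1 := Subtype.ext (by
        rw [Subgroup.coe_pow]; exact pow_card_eq_one')
      rw [hj, hxo, cP_one]
    have hgenp : ∀ i : ℕ, ∀ p, lam (D.dP ((s ^ o (G := G)) ^ i) p) = lam p := by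
      intro i
      induction i with
      | zero => intro p; rw [pow_zero, dP_one]
      | succ i ih => intro p; rw [pow_succ', dP_mul, h1, ih]
    obtain ⟨i, hi⟩ := exists_pow_eq_self_of_coprime (x := s) (n := o (G := G))
      ((D.hcop.coprime_dvd_left (orderOf_dvd_natCard s)).symm)
    intro p
    have := hgenp i p
    rwa [hi] at this
  have hlam1 : lam = 1 := by
    refine MonoidHom.ext fun p => ?_
    have hp0 : ∏ s : S, D.dP s p = 1 := by
      refine Subtype.ext ?_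
      rw [SubmonoidClass.coe_finsetProd]
      have := D.bdeg_nu (D.can (p : D.A))
      rw [nu_apply, map_prod] at this
      rw [OneMemClass.coe_one, ← this]
      exact Finset.prod_congr rfl fun s _ => congrArg (D.good_σ s).aq (D.bdeg_can (p : D.A)).symm
    have h1 := congrArg lam hp0
    rw [map_prod, map_one, Finset.prod_congr rfl fun s _ => hsfix s p, Finset.prod_const,
      Finset.card_univ] at h1
    have hpo : p ^ o (G := G) = 1 := Subtype.ext (D.pow_o_A p)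
    have h2 : lam p ^ o (G := G) = 1 := by rw [← map_pow, hpo, map_one]
    have hco : (Fintype.card S).Coprime (o (G := G)) := Nat.card_eq_fintype_card (α := S) ▸ D.hcop
    have h3 := pow_gcd_eq_one.2 ⟨h1, h2⟩
    rwa [hco, pow_one] at h3
  rw [hlam1, eps_one] at hlam_ne
  have he1 := (central_dichotomy ρ D.e₁_mul_e₁ D.δ_e₁).resolve_left hlam_ne
  rw [Triv, ← trace_endRep, he1, LinearMap.trace_one]
  simp

theorem σ_mem_H (s : S) {h : G} (hh : h ∈ D.H) : D.σ s h ∈ D.H := by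
  have := D.H.mul_mem hh (D.hLH (D.hHS s h hh))
  rwa [mul_inv_cancel_left] at this

/-- The operators on `H`. -/
def σH (s : S) : D.H ≃* D.H :=
  MulEquiv.ofBijective (((D.σ s).toMonoidHom.comp D.H.subtype).codRestrict D.H fun h =>
    D.σ_mem_H s h.2) (Finite.injective_iff_bijective.1 fun a b e =>
      Subtype.ext ((D.σ s).injective (congrArg Subtype.val e)))

@[simp] theorem σH_coe (s : S) (h : D.H) : (D.σH s h : G) = D.σ s h := rfl

theorem triv_twist {χ : G → ℂ} (ht : D.Triv χ) (s : S) : D.Triv fun g => χ (D.σ s g) := by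
  rw [Triv, ← ev_amap, D.amap_e₁ (D.good_σ s) (D.bMap_can_σ s)]
  exact ht.trans (by simp)

theorem oddMult_twist (χ : G → ℂ) (η : D.H → ℂ) (s : S) :
    Cfsg.classInner (D.resH fun g => χ (D.σ s g)) (fun h => η (D.σH s h)) =
      Cfsg.classInner (D.resH χ) η :=
  CharInduce.classInner_comp_mulEquiv (D.σH s) (D.resH χ) η

theorem exists_image {χ : G → ℂ} (h : Cfsg.IsIrrCharacter G χ) (ho : D.Over χ) (hs : D.SInv χ) :
    ∃ η : Cfsg.IrrCharacter D.H, D.OverH η ∧ D.SInvH η ∧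
      (∃ m : ℕ, Cfsg.classInner (D.resH χ) η = m ∧ Odd m) ∧
      ∀ η' : Cfsg.IrrCharacter D.H,
        (∃ m : ℕ, Cfsg.classInner (D.resH χ) η' = m ∧ Odd m) → η' = η := by
  obtain ⟨η, hover, -, -, hodd, huniq⟩ := D.exists_eta h (D.triv_of_inv h ho hs)
  refine ⟨η, hover, fun s x y hxy => ?_, hodd, huniq⟩
  let η' : Cfsg.IrrCharacter D.H :=
    ⟨fun x => (η : D.H → ℂ) (D.σH s x), IsIrr.comp η.2 (D.σH s).toMonoidHom (D.σH s).surjective⟩
  obtain ⟨m, hm, hodd⟩ := hodd
  have he : η' = η := huniq η' ⟨m, by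
    rw [← hm, ← D.oddMult_twist χ η s, show (fun g => χ (D.σ s g)) = χ from funext (hs s)], hodd⟩
  have := congrFun (congrArg Subtype.val he) x
  rw [← this]
  exact congrArg (η : D.H → ℂ) (Subtype.ext hxy)

theorem image_inj {χ χ' : G → ℂ} (h : Cfsg.IsIrrCharacter G χ) (h' : Cfsg.IsIrrCharacter G χ')
    (ho : D.Over χ) (ho' : D.Over χ') (hs : D.SInv χ) (hs' : D.SInv χ')
    (η : Cfsg.IrrCharacter D.H)
    (hm : ∃ m : ℕ, Cfsg.classInner (D.resH χ) η = m ∧ Odd m)
    (hm' : ∃ m : ℕ, Cfsg.classInner (D.resH χ') η = m ∧ Odd m) : χ = χ' :=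
  D.eta_inj h h' (D.triv_of_inv h ho hs) (D.triv_of_inv h' ho' hs') η hm hm'

theorem sum_triv_sq :
    ∑ χ : Cfsg.IrrCharacter G, (if D.Triv χ then (χ : G → ℂ) 1 ^ 2 else 0) =
      (Nat.card G : ℂ) * D.e₁.coeff 1 := by
  have h1 : ∀ χ : Cfsg.IrrCharacter G, (if D.Triv χ then (χ : G → ℂ) 1 ^ 2 else 0) =
      (χ : G → ℂ) 1 * ev (χ : G → ℂ) D.e₁ := by
    intro χ
    obtain ⟨n, ρ, hρi, hρ⟩ := χ.2
    split_ifs with ht
    · rw [ht]; ring
    · rcases central_dichotomy ρ D.e₁_mul_e₁ D.δ_e₁ with h0 | h0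
      · rw [← hρ, ← trace_endRep, h0, map_zero, mul_zero]
      · refine absurd ?_ ht
        rw [Triv, ← hρ, ← trace_endRep, h0, LinearMap.trace_one]
        simp
  rw [Finset.sum_congr rfl fun χ _ => h1 χ]
  simp only [ev, Finset.mul_sum]
  rw [Finset.sum_comm, Finset.sum_eq_single (1 : G)]
  · rw [Finset.sum_congr rfl fun (χ : Cfsg.IrrCharacter G) _ => show (χ : G → ℂ) 1 * (D.e₁.coeff 1 * (χ : G → ℂ) 1) =
      D.e₁.coeff 1 * (χ : G → ℂ) 1 ^ 2 by ring, ← Finset.mul_sum, sum_sq_degree, mul_comm]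
  · intro g _ hg
    rw [Finset.sum_congr rfl fun (χ : Cfsg.IrrCharacter G) _ => show (χ : G → ℂ) 1 * (D.e₁.coeff g * (χ : G → ℂ) g) =
      D.e₁.coeff g * ((χ : G → ℂ) 1 * (χ : G → ℂ) g) by ring, ← Finset.mul_sum,
      sum_degree_mul_apply, if_neg hg, mul_zero]
  · simp

theorem coeff_e₁_one :
    D.e₁.coeff 1 = (Fintype.card D.P : ℂ)⁻¹ * (D.θ 1 * D.θ 1 / (Nat.card D.L : ℂ)) := by
  rw [e₁, MonoidAlgebra.coeff_smul, Finsupp.smul_apply, MonoidAlgebra.coeff_sum,
    Finsupp.finsetSum_apply, Finset.sum_eq_single (1 : D.P)]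
  · rw [OneMemClass.coe_one, V_one, smul_eq_mul]
    have := D.coeff_e_mem 1
    rw [OneMemClass.coe_one, inv_one] at this
    rw [this]
    ring
  · intro p _ hp
    by_contra hne
    have h1 := (D.isLift_V (p : D.A)).supp 1 hne
    exact hp (Subtype.ext (Subtype.ext (by simpa using h1.symm)))
  · simp

theorem sum_overH :
    ∑ η : Cfsg.IrrCharacter D.H, (η : D.H → ℂ) 1 * (Cfsg.classInner (D.resL η) D.θ * D.θ 1) =
      (Nat.card D.H : ℂ) / (Nat.card D.L : ℂ) * (D.θ 1 * D.θ 1) := by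
  have hstep : ∀ l : D.L, ∑ η : Cfsg.IrrCharacter D.H,
      (η : D.H → ℂ) 1 * (η : D.H → ℂ) ⟨l, D.hLH l.2⟩ =
        if l = 1 then (Nat.card D.H : ℂ) else 0 := by
    intro l
    rw [sum_degree_mul_apply]
    by_cases hl : l = 1
    · subst hl
      rw [if_pos (rfl : (1 : D.L) = 1)]
      exact if_pos (Subtype.ext rfl)
    · rw [if_neg hl]
      exact if_neg fun e => hl (Subtype.ext (congrArg (fun z : D.H => (z : G)) e))
  simp only [classInner_def, resL, Finset.mul_sum, Finset.sum_mul]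
  rw [Finset.sum_comm, Finset.sum_eq_single (1 : D.L)]
  · have h1 := IsChar.inv_apply (IsIrr.isCharacter D.irr) (1 : D.L)
    rw [inv_one] at h1
    rw [← h1, Finset.sum_congr rfl fun (η : Cfsg.IrrCharacter D.H) _ =>
      show (η : D.H → ℂ) 1 * ((Nat.card D.L : ℂ)⁻¹ *
        ((η : D.H → ℂ) ⟨((1 : D.L) : G), D.hLH (1 : D.L).2⟩ * D.θ 1) * D.θ 1) =
        (Nat.card D.L : ℂ)⁻¹ * (D.θ 1 * D.θ 1) *
          ((η : D.H → ℂ) 1 * (η : D.H → ℂ) ⟨((1 : D.L) : G), D.hLH (1 : D.L).2⟩) by ring,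
      ← Finset.mul_sum, hstep, if_pos rfl]
    ring
  · intro l _ hl
    rw [Finset.sum_congr rfl fun (η : Cfsg.IrrCharacter D.H) _ =>
      show (η : D.H → ℂ) 1 * ((Nat.card D.L : ℂ)⁻¹ *
        ((η : D.H → ℂ) ⟨(l : G), D.hLH l.2⟩ * conj (D.θ l)) * D.θ 1) =
        (Nat.card D.L : ℂ)⁻¹ * conj (D.θ l) * D.θ 1 *
          ((η : D.H → ℂ) 1 * (η : D.H → ℂ) ⟨(l : G), D.hLH l.2⟩) by ring,
      ← Finset.mul_sum, hstep, if_neg hl, mul_zero]
  · simp

theorem exists_preimage {η : D.H → ℂ} (hη : Cfsg.IsIrrCharacter D.H η) (ho : D.OverH η) :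
    ∃ χ : Cfsg.IrrCharacter G, D.Triv χ ∧
      ∃ m : ℕ, Cfsg.classInner (D.resH χ) η = m ∧ Odd m := by
  by_contra hcon
  let I : Finset (Cfsg.IrrCharacter G) := Finset.univ.filter fun χ => D.Triv χ
  let F : Cfsg.IrrCharacter G → Cfsg.IrrCharacter D.H := fun χ =>
    if ht : D.Triv χ then (D.exists_eta χ.2 ht).choose else ⟨η, hη⟩
  have hF : ∀ χ ∈ I, (F χ : D.H → ℂ) 1 = Cfsg.classInner (D.resL (F χ)) D.θ * D.θ 1 ∧
      (D.psi χ = F χ ∨ D.psi χ = -(F χ : D.H → ℂ)) ∧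
      ∃ m : ℕ, Cfsg.classInner (D.resH χ) (F χ) = m ∧ Odd m := by
    intro χ hχ
    have ht : D.Triv χ := (Finset.mem_filter.1 hχ).2
    obtain ⟨-, h1, h2, h3, -⟩ := (D.exists_eta χ.2 ht).choose_spec
    simp only [F, dif_pos ht]
    exact ⟨h1, h2, h3⟩
  have hinj : Set.InjOn F I := fun χ hχ χ' hχ' e => Subtype.ext <|
    D.eta_inj χ.2 χ'.2 (Finset.mem_filter.1 hχ).2 (Finset.mem_filter.1 hχ').2 (F χ)
      (hF χ hχ).2.2 (e ▸ (hF χ' hχ').2.2)
  have hsum1 : ∑ χ ∈ I, (F χ : D.H → ℂ) 1 * (F χ : D.H → ℂ) 1 * (Fintype.card D.A : ℂ) =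
      (Fintype.card D.P : ℂ) * ((Nat.card G : ℂ) * D.e₁.coeff 1) := by
    rw [← sum_triv_sq, ← Finset.sum_filter, Finset.mul_sum]
    refine Finset.sum_congr rfl fun χ hχ => ?_
    obtain ⟨n, ρ, hρ, he⟩ := D.exists_matRep (IsIrr.isCharacter χ.2) (Finset.mem_filter.1 hχ).2
    have h := D.tr_T_sq (matRep ρ) (matRep_eq_one ρ he)
    simp only [tr_matRep, hρ, ← δ_one, ev_δ] at h
    have hψ : D.psi χ 1 = ev (χ : G → ℂ) D.T := by
      rw [psi, OneMemClass.coe_one, δ_one, mul_one]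
    rw [← hψ] at h
    rcases (hF χ hχ).2.1 with e | e <;> rw [e] at h
    · rw [h, sq]
    · rw [Pi.neg_apply, neg_mul_neg] at h; rw [h, sq]
  let w : Cfsg.IrrCharacter D.H → ℝ := fun ζ =>
    ((ζ : D.H → ℂ) 1 * (Cfsg.classInner (D.resL ζ) D.θ * D.θ 1)).re
  have hnn : ∀ ζ : Cfsg.IrrCharacter D.H, ∃ a : ℕ,
      (ζ : D.H → ℂ) 1 * (Cfsg.classInner (D.resL ζ) D.θ * D.θ 1) = a := by
    intro ζ
    obtain ⟨a, ha⟩ := IsChar.exists_degree (IsIrr.isCharacter ζ.2)
    obtain ⟨b, hb⟩ := classInner_isChar_nat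
      (IsChar.comp (IsIrr.isCharacter ζ.2) (Subgroup.inclusion D.hLH)) (IsIrr.isCharacter D.irr)
    obtain ⟨c, hc⟩ := IsChar.exists_degree (IsIrr.isCharacter D.irr)
    refine ⟨a * (b * c), ?_⟩
    rw [ha, hc]
    push_cast
    congr 2
  choose a ha using hnn
  have htot : ∑ χ ∈ I, a (F χ) = ∑ ζ : Cfsg.IrrCharacter D.H, a ζ := by
    have h1 : ((∑ χ ∈ I, a (F χ) : ℕ) : ℂ) = ((∑ ζ : Cfsg.IrrCharacter D.H, a ζ : ℕ) : ℂ) := by
      simp only [Nat.cast_sum, ← ha]
      rw [sum_overH]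
      refine mul_right_cancel₀ D.card_A_ne ?_
      rw [Finset.sum_mul, Finset.sum_congr rfl fun χ hχ => ?_, hsum1, coeff_e₁_one, D.card_G_eq]
      · push_cast
        have := D.card_P_ne
        field_simp
      · rw [← (hF χ hχ).1]
    exact_mod_cast h1
  rw [← Finset.sum_image hinj] at htot
  have hnot : (⟨η, hη⟩ : Cfsg.IrrCharacter D.H) ∉ I.image F := by
    intro hmem
    obtain ⟨χ, hχ, he⟩ := Finset.mem_image.1 hmem
    refine hcon ⟨χ, (Finset.mem_filter.1 hχ).2, ?_⟩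
    obtain ⟨m, hm, hodd⟩ := (hF χ hχ).2.2
    rw [he] at hm
    exact ⟨m, hm, hodd⟩
  have hlt : ∑ ζ ∈ I.image F, a ζ < ∑ ζ : Cfsg.IrrCharacter D.H, a ζ := by
    refine Finset.sum_lt_sum_of_subset (Finset.subset_univ _) (Finset.mem_univ _) hnot ?_
      fun _ _ _ => Nat.zero_le _
    refine Nat.pos_of_ne_zero fun h0 => ?_
    have := ha ⟨η, hη⟩
    rw [h0, Nat.cast_zero] at this
    exact mul_ne_zero (IsIrr.one_ne_zero hη) (mul_ne_zero ho D.θ_one_ne) this
  omega

theorem exists_preimage_inv {η : D.H → ℂ} (hη : Cfsg.IsIrrCharacter D.H η) (ho : D.OverH η)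
    (hs : D.SInvH η) :
    ∃ χ : Cfsg.IrrCharacter G, D.Over χ ∧ D.SInv χ ∧
      ∃ m : ℕ, Cfsg.classInner (D.resH χ) η = m ∧ Odd m := by
  obtain ⟨χ, ht, m, hm, hodd⟩ := D.exists_preimage hη ho
  refine ⟨χ, D.over_of_triv χ.2 ht, fun s g => ?_, m, hm, hodd⟩
  have hirr : Cfsg.IsIrrCharacter G fun g => (χ : G → ℂ) (D.σ s g) :=
    IsIrr.comp χ.2 (D.σ s).toMonoidHom (D.σ s).surjective
  have hηs : (fun x => η (D.σH s x)) = η := funext fun x => hs s x (D.σH s x) rfl
  have he := D.eta_inj hirr χ.2 (D.triv_twist ht s) ht ⟨η, hη⟩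
    ⟨m, by rw [← hm, ← D.oddMult_twist χ η s, hηs], hodd⟩ ⟨m, hm, hodd⟩
  exact congrFun he g

end Setup

end Cfsg.Agent.H35.Odd
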