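import Cfsg.Agent.CharInduce.Correspondence
import Mathlib.GroupTheory.OrderOfElement
import Mathlib.GroupTheory.QuotientGroup.Basic

/-!
# Invariant constituents on a normal subgroup under coprime operators
-/

noncomputable section

namespace Cfsg.Agent.H35.Odd

open Cfsg.Agent.CharBasic Cfsg.Agent.CharInduce
open scoped Classical

universe u v

/-- `G = H * K` with `K / L` abelian, operators trivial on `H / L`, fixed point free on `K / L`. -/
structure Base (G : Type u) [Group G] (S : Type v) [Group S] where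
  L : Subgroup G
  hn : L.Normal
  K : Subgroup G
  H : Subgroup G
  hKn : K.Normal
  hLK : L ≤ K
  hLH : L ≤ H
  hinf : ∀ x ∈ K, x ∈ H → x ∈ L
  hgen : ∀ g : G, ∃ h ∈ H, ∃ k ∈ K, g = h * k
  hab : ∀ a ∈ K, ∀ b ∈ K, a * b * a⁻¹ * b⁻¹ ∈ L
  σ : S →* MulAut G
  hLS : ∀ s, ∀ l ∈ L, σ s l ∈ L
  hKS : ∀ s, ∀ k ∈ K, σ s k ∈ K
  hHS : ∀ s, ∀ h ∈ H, h⁻¹ * σ s h ∈ L
  hfix : ∀ k ∈ K, (∀ s, k⁻¹ * σ s k ∈ L) → k ∈ L
  hodd : Odd (Nat.card G)
  hcop : (Nat.card S).Coprime (Nat.card G)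

attribute [instance] Base.hn Base.hKn

variable {G : Type u} [Group G] [Fintype G] {S : Type v} [Group S] (B : Base G S)

namespace Base

/-- The abelian section. -/
def A : Subgroup (G ⧸ B.L) := B.K.map (QuotientGroup.mk' B.L)

omit [Fintype G] in
theorem A_comm {q r : G ⧸ B.L} (hq : q ∈ B.A) (hr : r ∈ B.A) : q * r = r * q := by
  obtain ⟨a, ha, rfl⟩ := hq
  obtain ⟨b, hb, rfl⟩ := hr
  have h : ((a * b * a⁻¹ * b⁻¹ : G) : G ⧸ B.L) = 1 :=
    (QuotientGroup.eq_one_iff _).2 (B.hab a ha b hb)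
  simp only [QuotientGroup.mk_mul, QuotientGroup.mk_inv] at h
  simp only [QuotientGroup.mk'_apply]
  rwa [← mul_inv_eq_one, mul_inv_rev, ← mul_assoc]

instance : CommGroup B.A :=
  { (inferInstance : Group B.A) with
    mul_comm := fun a b => Subtype.ext (B.A_comm a.2 b.2) }

theorem pow_card_A (q : B.A) : q ^ Nat.card G = 1 := by
  obtain ⟨k, -, hk⟩ := q.2
  refine Subtype.ext ?_
  rw [SubmonoidClass.coe_pow, ← hk, ← map_pow, pow_card_eq_one', map_one]
  rfl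

/-- The class of an element of `K`. -/
def cls (k : G) (hk : k ∈ B.K) : B.A := ⟨(k : G ⧸ B.L), k, hk, rfl⟩

omit [Fintype G] in
theorem symm_mem_K (s : S) {k : G} (hk : k ∈ B.K) : (B.σ s).symm k ∈ B.K := by
  have h : B.σ s⁻¹ = (B.σ s)⁻¹ := map_inv _ _
  rw [← MulAut.inv_def, ← h]
  exact B.hKS _ _ hk

omit [Fintype G] in
theorem symm_mem_L (s : S) {k : G} (hk : k ∈ B.L) : (B.σ s).symm k ∈ B.L := by
  have h : B.σ s⁻¹ = (B.σ s)⁻¹ := map_inv _ _
  rw [← MulAut.inv_def, ← h]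
  exact B.hLS _ _ hk

omit [Fintype G] in
theorem symm_mem_H (s : S) {h : G} (hh : h ∈ B.H) : h⁻¹ * (B.σ s).symm h ∈ B.L := by
  have h' : B.σ s⁻¹ = (B.σ s)⁻¹ := map_inv _ _
  rw [← MulAut.inv_def, ← h']
  exact B.hHS _ _ hh

/-- `σ s` restricted to `L`. -/
def σL (s : S) : B.L →* B.L :=
  ((B.σ s).toMonoidHom.comp B.L.subtype).codRestrict B.L fun l => B.hLS s l l.2

omit [Fintype G] in
@[simp] theorem σL_coe (s : S) (l : B.L) : (B.σL s l : G) = B.σ s l := rfl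

omit [Fintype G] in
theorem σL_surjective (s : S) : Function.Surjective (B.σL s) := fun l =>
  ⟨⟨(B.σ s).symm (l : G), B.symm_mem_L s l.2⟩, Subtype.ext (MulEquiv.apply_symm_apply _ _)⟩

/-- The twist of a function on `L`. -/
def tw (θ : B.L → ℂ) (s : S) : B.L → ℂ := fun l => θ (B.σL s l)

omit [Fintype G] in
theorem tw_mul (θ : B.L → ℂ) (s t : S) : B.tw θ (s * t) = B.tw (B.tw θ s) t := by
  funext l
  simp only [tw]
  congr 1
  apply Subtype.ext
  simp [map_mul, MulAut.mul_apply]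

omit [Fintype G] in
theorem tw_one (θ : B.L → ℂ) : B.tw θ 1 = θ := by
  funext l
  simp only [tw]
  congr 1
  apply Subtype.ext
  simp

omit [Fintype G] in
theorem tw_conjFun (θ : B.L → ℂ) (g : G) (s : S) :
    B.tw (conjFun B.L θ g) s = conjFun B.L (B.tw θ s) ((B.σ s).symm g) := by
  funext l
  simp only [tw, conjFun]
  congr 1
  apply Subtype.ext
  simp

omit [Fintype G] in
theorem conjFun_mem {θ : B.L → ℂ} (hθ : Cfsg.IsClassFunction B.L θ) {l : G} (hl : l ∈ B.L) :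
    conjFun B.L θ l = θ :=
  mem_inertia B.L |>.1 (le_inertia B.L hθ hl)

omit [Fintype G] in
theorem conjFun_H_inv {θ : B.L → ℂ} (hθ : Cfsg.IsClassFunction B.L θ)
    (hinv : ∀ s, B.tw θ s = θ) {h : G} (hh : h ∈ B.H) (s : S) :
    B.tw (conjFun B.L θ h) s = conjFun B.L θ h := by
  obtain ⟨l, hl, hl'⟩ : ∃ l ∈ B.L, (B.σ s).symm h = l * h := by
    refine ⟨(B.σ s).symm h * h⁻¹, ?_, by simp⟩
    have := B.hn.conj_mem _ (B.symm_mem_H s hh) h
    simpa [mul_assoc] using this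
  rw [tw_conjFun, hinv, hl', ← conjFun_mul, B.conjFun_mem hθ hl]

/-- If every twist of `θ` is a conjugate by `X` and the operators are trivial modulo `Y` on `X`,
every twist is a conjugate by `Y`. -/
theorem twist_mem {X Y : Subgroup G} [Y.Normal] {θ : B.L → ℂ}
    (hX : ∀ s, ∀ g ∈ X, g⁻¹ * (B.σ s).symm g ∈ Y)
    (h : ∀ s, ∃ g ∈ X, B.tw θ s = conjFun B.L θ g) (hYX : Y ≤ X) :
    ∀ s, ∃ y ∈ Y, B.tw θ s = conjFun B.L θ y := by
  intro s
  obtain ⟨g, hg, hgs⟩ := h s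
  have hpow : ∀ j : ℕ, ∃ a ∈ X, B.tw θ (s ^ j) = conjFun B.L θ a ∧
      ((a : G) : G ⧸ Y) = ((g : G) : G ⧸ Y) ^ j := by
    intro j
    induction j with
    | zero => exact ⟨1, X.one_mem, by rw [pow_zero, tw_one, conjFun_one], by simp⟩
    | succ j ih =>
      obtain ⟨a, ha, has, hmk⟩ := ih
      have hm : ((B.σ s).symm a : G ⧸ Y) = (a : G ⧸ Y) :=
        (QuotientGroup.eq.2 (hX s a ha)).symm
      refine ⟨g * (B.σ s).symm a, X.mul_mem hg ?_, ?_, ?_⟩
      · have := X.mul_mem ha (hYX (hX s a ha))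
        rwa [mul_inv_cancel_left] at this
      · rw [pow_succ, tw_mul, has, tw_conjFun, hgs, conjFun_mul]
      · rw [QuotientGroup.mk_mul, hm, hmk, pow_succ']
  obtain ⟨y, hyX, hy, hymk⟩ := hpow (Nat.card G)
  rw [← QuotientGroup.mk_pow, pow_card_eq_one', QuotientGroup.mk_one, QuotientGroup.eq_one_iff] at hymk
  have hy' : ∀ i : ℕ, ∃ b ∈ Y, B.tw θ ((s ^ Nat.card G) ^ i) = conjFun B.L θ b := by
    intro i
    induction i with
    | zero => exact ⟨1, Y.one_mem, by rw [pow_zero, tw_one, conjFun_one]⟩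
    | succ i ih =>
      obtain ⟨b, hb, hbs⟩ := ih
      refine ⟨y * (B.σ (s ^ Nat.card G)).symm b, Y.mul_mem hymk ?_, ?_⟩
      · have := Y.mul_mem hb (hX (s ^ Nat.card G) b (hYX hb))
        rwa [mul_inv_cancel_left] at this
      · rw [pow_succ, tw_mul, hbs, tw_conjFun, hy, conjFun_mul]
  obtain ⟨i, hi⟩ := exists_pow_eq_self_of_coprime (x := s) (n := Nat.card G)
    ((B.hcop.coprime_dvd_left (orderOf_dvd_natCard s)).symm)
  obtain ⟨b, hb, hbs⟩ := hy' i
  rw [hi] at hbs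
  exact ⟨b, hb, hbs⟩

omit [Fintype G] in
theorem quot_HK (s : S) (g : G) (_hg : g ∈ (⊤ : Subgroup G)) : g⁻¹ * (B.σ s).symm g ∈ B.K := by
  obtain ⟨h, hh, k, hk, rfl⟩ := B.hgen g
  rw [map_mul, mul_inv_rev, show k⁻¹ * h⁻¹ * ((B.σ s).symm h * (B.σ s).symm k) =
    k⁻¹ * (h⁻¹ * (B.σ s).symm h) * (B.σ s).symm k by group]
  exact B.K.mul_mem (B.K.mul_mem (B.K.inv_mem hk) (B.hLK (B.symm_mem_H s hh))) (B.symm_mem_K s hk)

/-- The image in the section of the part of `K` fixing `θ`. -/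
def fixA (θ : B.L → ℂ) : Subgroup B.A :=
  ((inertia B.L θ ⊓ B.K).map (QuotientGroup.mk' B.L)).subgroupOf B.A

omit [Fintype G] in
theorem mem_fixA {θ : B.L → ℂ} (hθ : Cfsg.IsClassFunction B.L θ) {k : G} (hk : k ∈ B.K) :
    B.cls k hk ∈ B.fixA θ ↔ k ∈ inertia B.L θ := by
  refine ⟨?_, fun h => Subgroup.mem_subgroupOf.2 ⟨k, ⟨h, hk⟩, rfl⟩⟩
  intro hmem
  obtain ⟨i, ⟨hi, -⟩, hik⟩ := Subgroup.mem_subgroupOf.1 hmem
  have : i⁻¹ * k ∈ B.L := QuotientGroup.eq.1 hik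
  have h2 := (inertia B.L θ).mul_mem hi (le_inertia B.L hθ this)
  rwa [mul_inv_cancel_left] at h2

omit [Fintype G] in
theorem cls_eq_iff {θ : B.L → ℂ} (hθ : Cfsg.IsClassFunction B.L θ) {a b : G} (ha : a ∈ B.K)
    (hb : b ∈ B.K) :
    conjFun B.L θ a = conjFun B.L θ b ↔
      (QuotientGroup.mk (B.cls a ha) : B.A ⧸ B.fixA θ) = QuotientGroup.mk (B.cls b hb) := by
  rw [conjFun_eq_iff, ← mul_inv_eq_one (b := (QuotientGroup.mk (B.cls b hb) : B.A ⧸ B.fixA θ)),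
    ← QuotientGroup.mk_inv, ← QuotientGroup.mk_mul, QuotientGroup.eq_one_iff,
    ← B.mem_fixA hθ (B.K.mul_mem ha (B.K.inv_mem hb))]
  rfl

omit [Fintype G] in
theorem cls_mul {a b : G} (ha : a ∈ B.K) (hb : b ∈ B.K) :
    B.cls (a * b) (B.K.mul_mem ha hb) = B.cls a ha * B.cls b hb := rfl

/-- `σ s` inverse on the section. -/
def aσ (s : S) : B.A →* B.A :=
  ((QuotientGroup.map B.L B.L ((B.σ s).symm : G ≃* G).toMonoidHom fun _ hl =>
    B.symm_mem_L s hl).comp B.A.subtype).codRestrict B.A fun q => by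
      obtain ⟨k, hk, hkq⟩ := q.2
      exact ⟨(B.σ s).symm k, B.symm_mem_K s hk, by
        rw [MonoidHom.comp_apply, Subgroup.subtype_apply, ← hkq]
        rfl⟩

omit [Fintype G] in
theorem aσ_cls (s : S) {k : G} (hk : k ∈ B.K) :
    B.aσ s (B.cls k hk) = B.cls ((B.σ s).symm k) (B.symm_mem_K s hk) := rfl

variable [Fintype S]

include B in
theorem exists_exp : ∃ m : ℕ, ∀ {M : Type u} [Monoid M] (b : M), b ^ Nat.card G = 1 →
    b ^ (Fintype.card S * m) = b := by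
  have hco : Nat.Coprime (Fintype.card S) (Nat.card G) :=
    (Nat.card_eq_fintype_card (α := S)) ▸ B.hcop
  obtain ⟨m, hm⟩ : ∃ m, Fintype.card S * m % Nat.card G = 1 % Nat.card G := by
    by_cases h1 : 1 < Nat.card G
    · obtain ⟨m, hm⟩ := Nat.exists_mul_mod_eq_one_of_coprime hco h1
      exact ⟨m, by rw [hm.2, Nat.one_mod_eq_one.2 (by omega)]⟩
    · have : Nat.card G = 1 := by have := Nat.card_pos (α := G); omega
      exact ⟨0, by rw [this, Nat.mod_one, Nat.mod_one]⟩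
  refine ⟨m, fun b hb => ?_⟩
  rw [pow_eq_pow_mod _ hb, hm, ← pow_eq_pow_mod _ hb, pow_one]

theorem aσ_mul (s t : S) (q : B.A) : B.aσ (s * t) q = B.aσ t (B.aσ s q) := by
  obtain ⟨k, hk, hkq⟩ := q.2
  obtain rfl : q = B.cls k hk := Subtype.ext hkq.symm
  rw [aσ_cls, aσ_cls, aσ_cls]
  refine Subtype.ext (congrArg (QuotientGroup.mk : G → G ⧸ B.L) ?_)
  exact congrArg (fun α : MulAut G => α.symm k) (map_mul B.σ s t)

/-- Two invariant conjugates by an element of `K` coincide. -/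
theorem conjFun_K_eq {θ : B.L → ℂ} (hθ : Cfsg.IsClassFunction B.L θ)
    (hinv : ∀ s, B.tw θ s = θ) {k : G} (hk : k ∈ B.K)
    (hk' : ∀ s, B.tw (conjFun B.L θ k) s = conjFun B.L θ k) : conjFun B.L θ k = θ := by
  let q : B.A := B.cls k hk
  have hs : ∀ s, (QuotientGroup.mk (B.aσ s q) : B.A ⧸ B.fixA θ) = QuotientGroup.mk q := by
    intro s
    have h := hk' s
    rw [tw_conjFun, hinv] at h
    rw [aσ_cls]
    exact (B.cls_eq_iff hθ _ _).1 h
  have hprod : ∏ s : S, B.aσ s q = 1 := by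
    set P := ∏ s : S, B.aσ s q with hP
    have hfix : ∀ t, B.aσ t P = P := by
      intro t
      rw [hP, map_prod]
      exact Fintype.prod_equiv (Equiv.mulRight t) _ _ fun s => (B.aσ_mul s t q).symm
    obtain ⟨p, hp, hpP⟩ := P.2
    have hPc : P = B.cls p hp := Subtype.ext hpP.symm
    refine Subtype.ext ?_
    rw [← hpP, OneMemClass.coe_one, QuotientGroup.mk'_apply, QuotientGroup.eq_one_iff]
    refine B.hfix p hp fun s => ?_
    have h := congrArg Subtype.val (hfix s⁻¹)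
    rw [hPc, aσ_cls] at h
    have h2 : ((B.σ s⁻¹).symm p : G ⧸ B.L) = (p : G ⧸ B.L) := h
    rw [← MulAut.inv_def, ← map_inv, inv_inv] at h2
    exact QuotientGroup.eq.1 h2.symm
  have h1 : (QuotientGroup.mk q : B.A ⧸ B.fixA θ) ^ Fintype.card S = 1 := by
    have := congrArg (QuotientGroup.mk' (B.fixA θ)) hprod
    rw [map_prod, map_one] at this
    simp only [QuotientGroup.mk'_apply, hs, Finset.prod_const, Finset.card_univ] at this
    exact this
  obtain ⟨m, hm'⟩ := B.exists_exp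
  have hm := hm' (QuotientGroup.mk q : B.A ⧸ B.fixA θ)
    (by rw [← QuotientGroup.mk_pow, B.pow_card_A]; rfl)
  rw [pow_mul, h1, one_pow, eq_comm, QuotientGroup.eq_one_iff] at hm
  exact (mem_inertia B.L).1 ((B.mem_fixA hθ hk).1 hm)

/-- An invariant conjugate exists. -/
theorem exists_fixed_conj {θ : B.L → ℂ} (hθ : Cfsg.IsClassFunction B.L θ)
    (h : ∀ s, ∃ g : G, B.tw θ s = conjFun B.L θ g) :
    ∃ x : G, ∀ s, B.tw (conjFun B.L θ x) s = conjFun B.L θ x := by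
  choose k hk hks using B.twist_mem (X := ⊤) (Y := B.K) B.quot_HK
    (fun s => (h s).imp fun g hg => ⟨Subgroup.mem_top g, hg⟩) le_top
  let q : S → B.A := fun s => B.cls (k s) (hk s)
  have hcoc : ∀ s t, (QuotientGroup.mk (q (s * t)) : B.A ⧸ B.fixA θ) =
      QuotientGroup.mk (q t * B.aσ t (q s)) := by
    intro s t
    simp only [q]
    rw [aσ_cls, ← cls_mul]
    refine (B.cls_eq_iff hθ _ _).1 ?_
    rw [← hks, tw_mul, hks, tw_conjFun, hks, conjFun_mul]
  set P := ∏ s : S, q s with hP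
  have key : ∀ t, (QuotientGroup.mk P : B.A ⧸ B.fixA θ) =
      (QuotientGroup.mk (q t)) ^ Fintype.card S * QuotientGroup.mk (B.aσ t P) := by
    intro t
    have h1 : P = ∏ s : S, q (s * t) :=
      (Fintype.prod_equiv (Equiv.mulRight t) _ _ fun s => rfl).symm
    have h2 := congrArg (QuotientGroup.mk' (B.fixA θ)) h1
    calc (QuotientGroup.mk P : B.A ⧸ B.fixA θ)
        = ∏ s : S, (QuotientGroup.mk (q t * B.aσ t (q s)) : B.A ⧸ B.fixA θ) :=
          (h2.trans (map_prod (QuotientGroup.mk' (B.fixA θ)) _ _)).trans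
            (Finset.prod_congr rfl fun s _ => hcoc s t)
      _ = (QuotientGroup.mk' (B.fixA θ)) (q t ^ Fintype.card S * B.aσ t P) := by
          rw [hP, map_prod (B.aσ t), ← Finset.card_univ, ← Finset.prod_const,
            ← Finset.prod_mul_distrib, map_prod]
          rfl
      _ = _ := rfl
  obtain ⟨m, hm⟩ := B.exists_exp
  obtain ⟨x, hx, hxP⟩ := (P ^ m).2
  have hxc : P ^ m = B.cls x hx := Subtype.ext hxP.symm
  refine ⟨x, fun t => ?_⟩
  rw [tw_conjFun, hks, conjFun_mul]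
  refine (B.cls_eq_iff hθ (B.K.mul_mem (hk t) (B.symm_mem_K t hx)) hx).2 ?_
  rw [B.cls_mul (hk t) (B.symm_mem_K t hx), ← B.aσ_cls t hx, ← hxc, map_pow, QuotientGroup.mk_mul, QuotientGroup.mk_pow,
    QuotientGroup.mk_pow, key t, mul_pow, ← pow_mul,
    hm (QuotientGroup.mk (q t) : B.A ⧸ B.fixA θ) (by rw [← QuotientGroup.mk_pow, B.pow_card_A]; rfl)]

end Base

end Cfsg.Agent.H35.Odd
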