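import Cfsg.Agent.H35.Odd.Core
import Cfsg.Agent.H35.Odd.Orbit

/-!
# The correspondence above one invariant character of the bottom group
-/

noncomputable section

namespace Cfsg.Agent.H35.Odd

open Cfsg.Agent.CharBasic Cfsg.Agent.CharInduce
open scoped Classical

universe u v

variable {G : Type u} [Group G] [Fintype G] {S : Type v} [Group S] [Fintype S] (B : Base G S)

namespace Base

/-- An invariant irreducible character of `L`. -/
structure Pt where
  θ : B.L → ℂ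
  irr : Cfsg.IsIrrCharacter B.L θ
  fix : ∀ s, B.tw θ s = θ

/-- `χ` has `θ` as a constituent. -/
def Above (χ : G → ℂ) (θ : B.L → ℂ) : Prop :=
  Cfsg.classInner (fun l : B.L => χ l) θ ≠ 0

/-- A function on `H` restricted to `L`. -/
def resL (ψ : B.H → ℂ) : B.L → ℂ := fun l => ψ ⟨l, B.hLH l.2⟩

/-- `ψ` has `θ` as a constituent. -/
def AboveH (ψ : B.H → ℂ) (θ : B.L → ℂ) : Prop := Cfsg.classInner (B.resL ψ) θ ≠ 0

/-- Invariance of a function on `G`. -/
def SInv (χ : G → ℂ) : Prop := ∀ s g, χ (B.σ s g) = χ g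

/-- Invariance of a function on `H`. -/
def SInvH (ψ : B.H → ℂ) : Prop := ∀ s, ∀ h h' : B.H, (h' : G) = B.σ s h → ψ h' = ψ h

/-- The multiplicity of `ψ` in the restriction is odd. -/
def OddMult (χ : G → ℂ) (ψ : B.H → ℂ) : Prop :=
  ∃ m : ℕ, Cfsg.classInner (fun h : B.H => χ h) ψ = m ∧ Odd m

namespace Pt

variable {B} (P : B.Pt)

/-- The inertia group. -/
abbrev T : Subgroup G := inertia B.L P.θ

theorem class_θ : Cfsg.IsClassFunction B.L P.θ := IsIrr.isClassFunction P.irr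

theorem le_T : B.L ≤ P.T := le_inertia B.L P.class_θ

theorem symm_mem (s : S) {g : G} (hg : g ∈ P.T) : (B.σ s).symm g ∈ P.T := by
  rw [mem_inertia] at hg ⊢
  have h := B.tw_conjFun P.θ g s
  rw [P.fix, hg, P.fix] at h
  exact h.symm

theorem σ_mem (s : S) {g : G} (hg : g ∈ P.T) : B.σ s g ∈ P.T := by
  have h := P.symm_mem s⁻¹ hg
  rwa [← MulAut.inv_def, ← map_inv, inv_inv] at h

/-- The operators on the inertia group. -/
def σT : S →* MulAut P.T where
  toFun s :=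
    { toFun := fun t => ⟨B.σ s t, P.σ_mem s t.2⟩
      invFun := fun t => ⟨(B.σ s).symm t, P.symm_mem s t.2⟩
      left_inv := fun t => Subtype.ext (MulEquiv.symm_apply_apply _ _)
      right_inv := fun t => Subtype.ext (MulEquiv.apply_symm_apply _ _)
      map_mul' := fun a b => Subtype.ext (map_mul (B.σ s) (a : G) (b : G)) }
  map_one' := by ext t; simp
  map_mul' s t := by ext x; simp

@[simp] theorem σT_coe (s : S) (t : P.T) : (P.σT s t : G) = B.σ s t := rfl

theorem gen_T (g : G) (hg : g ∈ P.T) :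
    ∃ h ∈ B.H, h ∈ P.T ∧ ∃ k ∈ B.K, k ∈ P.T ∧ g = h * k := by
  obtain ⟨h, hh, k, hk, rfl⟩ := B.hgen g
  have e1 : conjFun B.L P.θ h = conjFun B.L P.θ k⁻¹ := by
    rw [mem_inertia] at hg
    conv_rhs => rw [← hg]
    rw [conjFun_mul, mul_inv_cancel_right]
  have e2 := B.conjFun_K_eq P.class_θ P.fix (B.K.inv_mem hk) fun s => by
    rw [← e1]; exact B.conjFun_H_inv P.class_θ P.fix hh s
  exact ⟨h, hh, (mem_inertia B.L).2 (e1.trans e2), k, hk,
    P.T.inv_mem_iff.1 ((mem_inertia B.L).2 e2), rfl⟩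

/-- The data over `θ` in its inertia group. -/
def setup : Setup P.T S where
  L := B.L.subgroupOf P.T
  hn := inferInstance
  θ := fun l => P.θ (Subgroup.subgroupOfEquivOfLe P.le_T l)
  irr := IsIrr.comp P.irr (Subgroup.subgroupOfEquivOfLe P.le_T).toMonoidHom
    (Subgroup.subgroupOfEquivOfLe P.le_T).surjective
  inv g l l' h := by
    have hg := (mem_inertia B.L).1 g.2
    conv_rhs => rw [← hg]
    simp only [conjFun]
    congr 1
    apply Subtype.ext
    exact (congrArg (fun z : P.T => (z : G)) h :)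
  K := B.K.subgroupOf P.T
  H := B.H.subgroupOf P.T
  hKn := inferInstance
  hLK := fun _ hx => B.hLK hx
  hLH := fun _ hx => B.hLH hx
  hinf x h1 h2 := B.hinf x h1 h2
  hgen g := by
    obtain ⟨h, hh, hhT, k, hk, hkT, he⟩ := P.gen_T g g.2
    exact ⟨⟨h, hhT⟩, hh, ⟨k, hkT⟩, hk, Subtype.ext he⟩
  hab a ha b hb := B.hab a ha b hb
  σ := P.σT
  hLS s l hl := B.hLS s l hl
  hKS s k hk := B.hKS s k hk
  hHS s h hh := B.hHS s h hh
  hfix k hk hf := B.hfix k hk hf
  hodd := Odd.of_dvd_nat B.hodd (Subgroup.card_subgroup_dvd_card _)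
  hcop := B.hcop.coprime_dvd_right (Subgroup.card_subgroup_dvd_card _)
  θS s l l' h := by
    have h1 := congrFun (P.fix s) (Subgroup.subgroupOfEquivOfLe P.le_T l)
    simp only [tw] at h1
    rw [← h1]
    congr 1
    apply Subtype.ext
    exact (congrArg (fun z : P.T => (z : G)) h :)

theorem setup_over_iff (φ : P.T → ℂ) :
    P.setup.Over φ ↔ Cfsg.classInner (resTo B.L P.le_T φ) P.θ ≠ 0 := by
  rw [Setup.Over, ← CharInduce.classInner_comp_mulEquiv (Subgroup.subgroupOfEquivOfLe P.le_T)]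
  rfl

/-- An irreducible character above `θ` and its correspondent. -/
theorem exists_corr {χ : G → ℂ} (hχ : Cfsg.IsIrrCharacter G χ) (ha : B.Above χ P.θ) :
    ∃ φ : P.T → ℂ, Cfsg.IsIrrCharacter P.T φ ∧ P.setup.Over φ ∧ indFun P.T φ = χ ∧
      (∃ r : P.T → ℂ, Cfsg.IsCharacter P.T r ∧ (fun t : P.T => χ t) = φ + r ∧
        Cfsg.classInner (resTo B.L P.le_T r) P.θ = 0) ∧
      (B.SInv χ → P.setup.SInv φ) := by
  obtain ⟨φ, hφ, hind, f, hf, hres⟩ := exists_clifford_correspondent B.L hχ P.irr ha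
  obtain ⟨hm, huniq⟩ := correspondent_spec B.L P.le_T hχ P.irr hφ hind f hres
  have hover : Cfsg.classInner (resTo B.L P.le_T φ) P.θ = (f : ℂ) := by
    rw [show resTo B.L P.le_T φ = (f : ℂ) • P.θ from funext hres, classInner_smul_left,
      classInner_irr_self P.irr, mul_one]
  have hone : Cfsg.classInner (fun t : P.T => χ t) φ = 1 := by
    rw [← classInner_indFun_right P.T φ χ (IsIrr.isClassFunction hχ), hind,
      classInner_irr_self hχ]
  obtain ⟨r, hr, her⟩ := IsChar.exists_eq_add (IsChar.res (IsIrr.isCharacter hχ) P.T) hφ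
    (by rw [hone]; exact one_ne_zero)
  have hsplit : (fun l : B.L => χ l) = resTo B.L P.le_T φ + resTo B.L P.le_T r :=
    funext fun l => congrFun her ⟨l, P.le_T l.2⟩
  refine ⟨φ, hφ, (P.setup_over_iff φ).2 (by rw [hover]; exact Nat.cast_ne_zero.2 hf.ne'), hind,
    ⟨r, hr, her, ?_⟩, fun hs s g => ?_⟩
  · rw [hsplit, classInner_add_left, hover] at hm
    linear_combination hm
  · let φ' : P.T → ℂ := fun t => φ (P.σT s t)
    have hφ' : Cfsg.IsIrrCharacter P.T φ' :=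
      IsIrr.comp hφ (P.σT s).toMonoidHom (P.σT s).surjective
    have h1 : Cfsg.classInner (fun t : P.T => χ t) φ' ≠ 0 := by
      rw [show (fun t : P.T => χ t) = fun t : P.T => χ (P.σT s t : P.T) from
        funext fun t => (hs s t).symm]
      rw [CharInduce.classInner_comp_mulEquiv (P.σT s) (fun t : P.T => χ t) φ, hone]
      exact one_ne_zero
    have h2 : Cfsg.classInner (resTo B.L P.le_T φ') P.θ ≠ 0 := by
      have e : resTo B.L P.le_T φ' = (f : ℂ) • P.θ := by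
        funext l
        rw [Pi.smul_apply, smul_eq_mul, ← congrFun (P.fix s) l]
        exact hres (B.σL s l)
      rw [e, classInner_smul_left, classInner_irr_self P.irr, mul_one]
      exact Nat.cast_ne_zero.2 hf.ne'
    exact congrFun (huniq φ' hφ' h1 h2) g

/-- `θ` on `L` inside `H`. -/
def θH : B.L.subgroupOf B.H → ℂ := fun l => P.θ (Subgroup.subgroupOfEquivOfLe B.hLH l)

theorem irr_θH : Cfsg.IsIrrCharacter (B.L.subgroupOf B.H) P.θH :=
  IsIrr.comp P.irr (Subgroup.subgroupOfEquivOfLe B.hLH).toMonoidHom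
    (Subgroup.subgroupOfEquivOfLe B.hLH).surjective

/-- The inertia group in `H`. -/
abbrev TH : Subgroup B.H := inertia (B.L.subgroupOf B.H) P.θH

theorem mem_TH {x : B.H} : x ∈ P.TH ↔ (x : G) ∈ P.T := by
  rw [mem_inertia, mem_inertia]
  constructor
  · intro h
    funext l
    exact congrFun h ⟨⟨(l : G), B.hLH l.2⟩, l.2⟩
  · intro h
    funext l
    exact congrFun h (Subgroup.subgroupOfEquivOfLe B.hLH l)

/-- The two descriptions of `H ∩ T`. -/
def ι : P.TH ≃* P.setup.H where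
  toFun x := ⟨⟨((x : B.H) : G), P.mem_TH.1 x.2⟩, (x : B.H).2⟩
  invFun y := ⟨⟨((y : P.T) : G), y.2⟩, P.mem_TH.2 (y : P.T).2⟩
  left_inv x := rfl
  right_inv y := rfl
  map_mul' x y := rfl

theorem le_TH : B.L.subgroupOf B.H ≤ P.TH := fun x hx => P.mem_TH.2 (P.le_T hx)

theorem aboveH_iff (ψ : B.H → ℂ) :
    B.AboveH ψ P.θ ↔
      Cfsg.classInner (fun l : B.L.subgroupOf B.H => ψ l) P.θH ≠ 0 := by
  rw [AboveH, ← CharInduce.classInner_comp_mulEquiv (Subgroup.subgroupOfEquivOfLe B.hLH)]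
  rfl

theorem overH_iff (η : P.setup.H → ℂ) :
    P.setup.OverH η ↔
      Cfsg.classInner (resTo (B.L.subgroupOf B.H) P.le_TH (fun x => η (P.ι x))) P.θH ≠ 0 := by
  let e : B.L.subgroupOf P.T ≃* B.L.subgroupOf B.H :=
    (Subgroup.subgroupOfEquivOfLe P.le_T).trans (Subgroup.subgroupOfEquivOfLe B.hLH).symm
  rw [Setup.OverH, ← CharInduce.classInner_comp_mulEquiv e]
  rfl

/-- The character of `H` induced from one of `H ∩ T`. -/
def up (η : P.setup.H → ℂ) : B.H → ℂ := indFun P.TH fun x => η (P.ι x)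

theorem irr_comp_ι {η : P.setup.H → ℂ} (hη : Cfsg.IsIrrCharacter P.setup.H η) :
    Cfsg.IsIrrCharacter P.TH fun x => η (P.ι x) :=
  IsIrr.comp hη P.ι.toMonoidHom P.ι.surjective

theorem irr_up {η : P.setup.H → ℂ} (hη : Cfsg.IsIrrCharacter P.setup.H η)
    (ho : P.setup.OverH η) : Cfsg.IsIrrCharacter B.H (P.up η) ∧ B.AboveH (P.up η) P.θ := by
  obtain ⟨h1, h2, -⟩ := clifford_correspondence (B.L.subgroupOf B.H) P.irr_θH P.le_TH
    (P.irr_comp_ι hη) ((P.overH_iff η).1 ho)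
  refine ⟨h1, (P.aboveH_iff _).2 ?_⟩
  rw [show (fun l : B.L.subgroupOf B.H => P.up η l) =
    fun l : B.L.subgroupOf B.H => indFun P.TH (fun x => η (P.ι x)) l from rfl, h2]
  exact (P.overH_iff η).1 ho

theorem inner_up (F : B.H → ℂ) (hF : Cfsg.IsClassFunction B.H F) (η : P.setup.H → ℂ) :
    Cfsg.classInner F (P.up η) =
      Cfsg.classInner (fun y : P.setup.H => F ⟨((y : P.T) : G), y.2⟩) η := by
  rw [up, classInner_indFun_right P.TH _ F hF, ← CharInduce.classInner_comp_mulEquiv P.ι]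
  rfl

theorem sinv_up {η : P.setup.H → ℂ} (hη : Cfsg.IsIrrCharacter P.setup.H η)
    (ho : P.setup.OverH η) (hs : P.setup.SInvH η) : B.SInvH (P.up η) := by
  intro s x y hxy
  obtain ⟨hirr, -⟩ := P.irr_up hη ho
  let σB : B.H →* B.H := ((B.σ s).toMonoidHom.comp B.H.subtype).codRestrict B.H fun h => by
    have := B.H.mul_mem h.2 (B.hLH (B.hHS s h h.2))
    rwa [mul_inv_cancel_left] at this
  have hsur : Function.Surjective σB := Finite.injective_iff_surjective.1 fun a b e =>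
    Subtype.ext ((B.σ s).injective (congrArg Subtype.val e))
  let ψ' : B.H → ℂ := fun x => P.up η (σB x)
  have hψ' : Cfsg.IsIrrCharacter B.H ψ' := IsIrr.comp hirr σB hsur
  have hne : Cfsg.classInner ψ' (P.up η) ≠ 0 := by
    rw [P.inner_up ψ' (IsIrr.isClassFunction hψ') η,
      show η = fun y => η (P.setup.σH s y) from funext fun y => (hs s y _ rfl).symm]
    rw [show (fun y : P.setup.H => ψ' ⟨((y : P.T) : G), y.2⟩) = fun y : P.setup.H =>
        (fun y : P.setup.H => P.up η ⟨((y : P.T) : G), y.2⟩) (P.setup.σH s y) from rfl] at *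
    refine (CharInduce.classInner_comp_mulEquiv (P.setup.σH s)
      (fun y : P.setup.H => P.up η ⟨((y : P.T) : G), y.2⟩) η).trans_ne ?_
    rw [← P.inner_up (P.up η) (IsIrr.isClassFunction hirr) η, classInner_irr_self hirr]
    exact one_ne_zero
  have he : ψ' = P.up η := by_contra fun h => hne (classInner_irr_of_ne hψ' hirr h)
  rw [show y = σB x from Subtype.ext hxy]
  exact congrFun he x

/-- An irreducible character of `H` above `θ` comes from `H ∩ T`. -/
theorem exists_down {ψ : B.H → ℂ} (hψ : Cfsg.IsIrrCharacter B.H ψ) (ha : B.AboveH ψ P.θ) :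
    ∃ η : P.setup.H → ℂ, Cfsg.IsIrrCharacter P.setup.H η ∧ P.setup.OverH η ∧ P.up η = ψ ∧
      (B.SInvH ψ → P.setup.SInvH η) := by
  obtain ⟨φ, hφ, hind, f, hf, hres⟩ :=
    exists_clifford_correspondent (B.L.subgroupOf B.H) hψ P.irr_θH ((P.aboveH_iff ψ).1 ha)
  obtain ⟨-, huniq⟩ :=
    correspondent_spec (B.L.subgroupOf B.H) P.le_TH hψ P.irr_θH hφ hind f hres
  let η : P.setup.H → ℂ := fun y => φ (P.ι.symm y)
  have hη : Cfsg.IsIrrCharacter P.setup.H η :=
    IsIrr.comp hφ P.ι.symm.toMonoidHom P.ι.symm.surjective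
  have hηφ : (fun x => η (P.ι x)) = φ := rfl
  have hoφ : Cfsg.classInner (resTo (B.L.subgroupOf B.H) P.le_TH φ) P.θH ≠ 0 := by
    rw [show resTo (B.L.subgroupOf B.H) P.le_TH φ = (f : ℂ) • P.θH from funext hres,
      classInner_smul_left, classInner_irr_self P.irr_θH, mul_one]
    exact Nat.cast_ne_zero.2 hf.ne'
  have hup : P.up η = ψ := hind
  refine ⟨η, hη, (P.overH_iff η).2 hoφ, hup, fun hs s a b hab => ?_⟩
  let η' : P.setup.H → ℂ := fun y => η (P.setup.σH s y)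
  have hη' : Cfsg.IsIrrCharacter P.setup.H η' :=
    IsIrr.comp hη (P.setup.σH s).toMonoidHom (P.setup.σH s).surjective
  have hclass := IsIrr.isClassFunction hψ
  have h1 : Cfsg.classInner (fun x : P.TH => ψ x) (fun x => η' (P.ι x)) ≠ 0 := by
    rw [← classInner_indFun_right P.TH _ ψ hclass, show indFun P.TH (fun x => η' (P.ι x)) =
      P.up η' from rfl, P.inner_up ψ hclass η']
    rw [show (fun y : P.setup.H => ψ ⟨((y : P.T) : G), y.2⟩) = fun y : P.setup.H =>
        (fun y : P.setup.H => ψ ⟨((y : P.T) : G), y.2⟩) (P.setup.σH s y) from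
      funext fun y => (hs s _ _ rfl).symm]
    refine (CharInduce.classInner_comp_mulEquiv (P.setup.σH s)
      (fun y : P.setup.H => ψ ⟨((y : P.T) : G), y.2⟩) η).trans_ne ?_
    rw [← P.inner_up ψ hclass η, hup, classInner_irr_self hψ]
    exact one_ne_zero
  have h2 : Cfsg.classInner (resTo (B.L.subgroupOf B.H) P.le_TH (fun x => η' (P.ι x))) P.θH ≠ 0 := by
    have e : resTo (B.L.subgroupOf B.H) P.le_TH (fun x => η' (P.ι x)) = (f : ℂ) • P.θH := by
      funext l
      let l' : B.L.subgroupOf B.H :=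
        ⟨⟨B.σ s ((l : B.H) : G), B.hLH (B.hLS s _ l.2)⟩, B.hLS s _ l.2⟩
      have h3 : P.θH l' = P.θH l := congrFun (P.fix s) (Subgroup.subgroupOfEquivOfLe B.hLH l)
      rw [Pi.smul_apply, smul_eq_mul, ← h3, ← hres l']
      rfl
    rw [e, classInner_smul_left, classInner_irr_self P.irr_θH, mul_one]
    exact Nat.cast_ne_zero.2 hf.ne'
  have he := huniq _ (P.irr_comp_ι hη') h1 h2
  have h4 : η' a = η a := congrFun he (P.ι.symm a)
  rw [← h4]
  exact congrArg η (Subtype.ext (Subtype.ext (congrArg Subtype.val hab)))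

/-- Multiplicities correspond. -/
theorem inner_eq {χ : G → ℂ} (hχ : Cfsg.IsIrrCharacter G χ) {φ r : P.T → ℂ}
    (hr : Cfsg.IsCharacter P.T r) (her : (fun t : P.T => χ t) = φ + r)
    (h0 : Cfsg.classInner (resTo B.L P.le_T r) P.θ = 0) {η : P.setup.H → ℂ}
    (hη : Cfsg.IsIrrCharacter P.setup.H η) (ho : P.setup.OverH η) :
    Cfsg.classInner (fun h : B.H => χ h) (P.up η) =
      Cfsg.classInner (P.setup.resH φ) η := by
  rw [P.inner_up _ (IsChar.isClassFunction (IsChar.res (IsIrr.isCharacter hχ) B.H)) η]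
  have hsum : (fun y : P.setup.H => χ ((y : P.T) : G)) = P.setup.resH φ + P.setup.resH r :=
    funext fun y => congrFun her (y : P.T)
  rw [hsum, classInner_add_left, add_eq_left]
  by_contra hne
  have hrH : Cfsg.IsCharacter P.setup.H (P.setup.resH r) := IsChar.res hr P.setup.H
  obtain ⟨r', hr', her'⟩ := IsChar.exists_eq_add hrH hη hne
  have hL : P.setup.resL (P.setup.resH r) = P.setup.resL η + P.setup.resL r' :=
    funext fun l => congrFun her' ⟨l, P.setup.hLH l.2⟩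
  obtain ⟨i, hi⟩ := classInner_isChar_nat
    (IsChar.comp (IsIrr.isCharacter hη) (Subgroup.inclusion P.setup.hLH))
    (IsIrr.isCharacter P.setup.irr)
  obtain ⟨j, hj⟩ := classInner_isChar_nat
    (IsChar.comp hr' (Subgroup.inclusion P.setup.hLH)) (IsIrr.isCharacter P.setup.irr)
  have h1 : Cfsg.classInner (P.setup.resL (P.setup.resH r)) P.setup.θ = 0 := by
    rw [← h0, ← CharInduce.classInner_comp_mulEquiv (Subgroup.subgroupOfEquivOfLe P.le_T)]
    rfl
  have hi' : Cfsg.classInner (P.setup.resL η) P.setup.θ = (i : ℂ) := hi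
  have hj' : Cfsg.classInner (P.setup.resL r') P.setup.θ = (j : ℂ) := hj
  rw [hL, classInner_add_left, hi', hj', ← Nat.cast_add, Nat.cast_eq_zero] at h1
  apply ho
  rw [hi', Nat.cast_eq_zero]
  omega

theorem exists_image {χ : G → ℂ} (hχ : Cfsg.IsIrrCharacter G χ) (ha : B.Above χ P.θ)
    (hs : B.SInv χ) :
    ∃ ψ : B.H → ℂ, Cfsg.IsIrrCharacter B.H ψ ∧ B.SInvH ψ ∧ B.OddMult χ ψ ∧
      ∀ ψ' : B.H → ℂ, Cfsg.IsIrrCharacter B.H ψ' → B.AboveH ψ' P.θ → B.OddMult χ ψ' →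
        ψ' = ψ := by
  obtain ⟨φ, hφ, ho, -, ⟨r, hr, her, h0⟩, hφs⟩ := P.exists_corr hχ ha
  obtain ⟨η, hηo, hηs, ⟨m, hm, hodd⟩, huniq⟩ := P.setup.exists_image hφ ho (hφs hs)
  refine ⟨P.up η, (P.irr_up η.2 hηo).1, P.sinv_up η.2 hηo hηs,
    ⟨m, by rw [P.inner_eq hχ hr her h0 η.2 hηo, hm], hodd⟩, fun ψ' hψ' ha' hm' => ?_⟩
  obtain ⟨η', hη', ho', rfl, -⟩ := P.exists_down hψ' ha'
  obtain ⟨m', hm', hodd'⟩ := hm'
  rw [P.inner_eq hχ hr her h0 hη' ho'] at hm'
  have := huniq ⟨η', hη'⟩ ⟨m', hm', hodd'⟩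
  rw [← this]

theorem image_inj {χ χ' : G → ℂ} (hχ : Cfsg.IsIrrCharacter G χ)
    (hχ' : Cfsg.IsIrrCharacter G χ') (ha : B.Above χ P.θ) (ha' : B.Above χ' P.θ)
    (hs : B.SInv χ) (hs' : B.SInv χ') {ψ : B.H → ℂ} (hψ : Cfsg.IsIrrCharacter B.H ψ)
    (hψa : B.AboveH ψ P.θ) (hm : B.OddMult χ ψ) (hm' : B.OddMult χ' ψ) : χ = χ' := by
  obtain ⟨φ, hφ, ho, hind, ⟨r, hr, her, h0⟩, hφs⟩ := P.exists_corr hχ ha
  obtain ⟨φ', hφ', ho', hind', ⟨r', hr', her', h0'⟩, hφs'⟩ := P.exists_corr hχ' ha'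
  obtain ⟨η, hη, hηo, rfl, -⟩ := P.exists_down hψ hψa
  obtain ⟨m, hm, hodd⟩ := hm
  obtain ⟨m', hm', hodd'⟩ := hm'
  rw [P.inner_eq hχ hr her h0 hη hηo] at hm
  rw [P.inner_eq hχ' hr' her' h0' hη hηo] at hm'
  have := P.setup.image_inj hφ hφ' ho ho' (hφs hs) (hφs' hs') ⟨η, hη⟩ ⟨m, hm, hodd⟩ ⟨m', hm', hodd'⟩
  rw [← hind, ← hind', this]

theorem exists_preimage {ψ : B.H → ℂ} (hψ : Cfsg.IsIrrCharacter B.H ψ)
    (hψa : B.AboveH ψ P.θ) (hψs : B.SInvH ψ) :
    ∃ χ : G → ℂ, Cfsg.IsIrrCharacter G χ ∧ B.SInv χ ∧ B.OddMult χ ψ := by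
  obtain ⟨η, hη, hηo, rfl, hηs⟩ := P.exists_down hψ hψa
  obtain ⟨φ, ho, hs, m, hm, hodd⟩ := P.setup.exists_preimage_inv hη hηo (hηs hψs)
  obtain ⟨hirr, hres, huniq⟩ := clifford_correspondence B.L P.irr P.le_T φ.2
    ((P.setup_over_iff φ).1 ho)
  have habove : B.Above (indFun P.T (φ : P.T → ℂ)) P.θ := by
    rw [Above, hres]; exact (P.setup_over_iff φ).1 ho
  obtain ⟨φ₁, hφ₁, ho₁, hind₁, ⟨r, hr, her, h0⟩, -⟩ := P.exists_corr hirr habove
  have h1 : φ₁ = φ := huniq φ₁ hφ₁ ((P.setup_over_iff φ₁).1 ho₁) hind₁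
  subst h1
  refine ⟨_, hirr, fun s g => ?_, m, by rw [P.inner_eq hirr hr her h0 hη hηo, hm], hodd⟩
  let χ' : G → ℂ := fun g => indFun P.T (φ : P.T → ℂ) (B.σ s g)
  have hχ' : Cfsg.IsIrrCharacter G χ' := IsIrr.comp hirr (B.σ s).toMonoidHom (B.σ s).surjective
  have hne : Cfsg.classInner χ' (indFun P.T (φ : P.T → ℂ)) ≠ 0 := by
    rw [classInner_indFun_right P.T _ χ' (IsIrr.isClassFunction hχ')]
    rw [show (fun t : P.T => χ' t) = fun t : P.T =>
      (fun t : P.T => indFun P.T (φ : P.T → ℂ) t) (P.σT s t) from rfl]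
    have e : (φ : P.T → ℂ) = fun t => (φ : P.T → ℂ) (P.σT s t) := funext fun t => (hs s t).symm
    conv_lhs => arg 2; rw [e]
    refine (CharInduce.classInner_comp_mulEquiv (P.σT s)
      (fun t : P.T => indFun P.T (φ : P.T → ℂ) t) φ).trans_ne ?_
    rw [← classInner_indFun_right P.T _ _ (IsIrr.isClassFunction hirr), classInner_irr_self hirr]
    exact one_ne_zero
  have he : χ' = indFun P.T (φ : P.T → ℂ) :=
    by_contra fun h => hne (classInner_irr_of_ne hχ' hirr h)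
  exact congrFun he g

end Pt

end Base

end Cfsg.Agent.H35.Odd
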