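import Cfsg.Agent.H35.Odd.Local

/-!
# The correspondence for a coprime abelian section
-/

noncomputable section

namespace Cfsg.Agent.H35.Odd

open Cfsg.Agent.CharBasic Cfsg.Agent.CharInduce
open scoped Classical

universe u v

variable {G : Type u} [Group G] [Fintype G] {S : Type v} [Group S] [Fintype S] (B : Base G S)

namespace Base

theorem exists_constituent_L {f : B.L → ℂ} (hf : Cfsg.IsCharacter B.L f) (h1 : f 1 ≠ 0) :
    ∃ θ : B.L → ℂ, Cfsg.IsIrrCharacter B.L θ ∧ Cfsg.classInner f θ ≠ 0 := by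
  obtain ⟨θ, hθ⟩ := exists_constituent hf fun h => h1 (by rw [h]; rfl)
  exact ⟨θ, θ.2, hθ⟩

theorem tw_constituent {θ : B.L → ℂ} {f : B.L → ℂ} (s : S) (hf : ∀ l, f (B.σL s l) = f l) :
    Cfsg.classInner f (B.tw θ s) = Cfsg.classInner f θ := by
  have hb : Function.Bijective (B.σL s) :=
    ⟨Finite.injective_iff_surjective.2 (B.σL_surjective s), B.σL_surjective s⟩
  conv_lhs => arg 1; rw [show f = fun l => f (B.σL s l) from funext fun l => (hf l).symm]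
  exact CharInduce.classInner_comp_mulEquiv (MulEquiv.ofBijective (B.σL s) hb) f θ

theorem exists_pt {χ : G → ℂ} (hχ : Cfsg.IsIrrCharacter G χ) (hs : B.SInv χ) :
    ∃ P : B.Pt, B.Above χ P.θ := by
  obtain ⟨θ₀, hθ₀, ha₀⟩ := B.exists_constituent_L (IsChar.res (IsIrr.isCharacter hχ) B.L)
    (IsIrr.one_ne_zero hχ)
  have htw : ∀ s, ∃ g : G, B.tw θ₀ s = conjFun B.L θ₀ g := by
    intro s
    refine exists_conjFun_eq_of_constituent B.L hχ hθ₀ ?_ ha₀ ?_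
    · exact IsIrr.comp hθ₀ (B.σL s) (B.σL_surjective s)
    · rw [B.tw_constituent s fun l => hs s l]
      exact ha₀
  obtain ⟨x, hx⟩ := B.exists_fixed_conj (IsIrr.isClassFunction hθ₀) htw
  refine ⟨⟨conjFun B.L θ₀ x, isIrrCharacter_conjFun B.L hθ₀ x, hx⟩, ?_⟩
  show Cfsg.classInner (fun l : B.L => χ l) (conjFun B.L θ₀ x) ≠ 0
  rw [classInner_res_conjFun B.L (IsIrr.isClassFunction hχ)]
  exact ha₀

theorem exists_pt_H {ψ : B.H → ℂ} (hψ : Cfsg.IsIrrCharacter B.H ψ) (hs : B.SInvH ψ) :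
    ∃ P : B.Pt, B.AboveH ψ P.θ := by
  have hψL : Cfsg.IsCharacter B.L (B.resL ψ) :=
    IsChar.comp (IsIrr.isCharacter hψ) (Subgroup.inclusion B.hLH)
  obtain ⟨θ, hθ, ha⟩ := B.exists_constituent_L (f := B.resL ψ) hψL
    (by have h1 : ψ 1 ≠ 0 := IsIrr.one_ne_zero hψ; exact h1)
  let e := Subgroup.subgroupOfEquivOfLe B.hLH
  have hconst : ∀ μ : B.L → ℂ, Cfsg.classInner (B.resL ψ) μ =
      Cfsg.classInner (fun l : B.L.subgroupOf B.H => ψ l) fun l => μ (e l) := fun μ => by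
    rw [← CharInduce.classInner_comp_mulEquiv e]
    rfl
  have htw : ∀ s, ∃ h ∈ B.H, B.tw θ s = conjFun B.L θ h := by
    intro s
    have h1 : Cfsg.classInner (B.resL ψ) (B.tw θ s) ≠ 0 := by
      rw [B.tw_constituent s fun l => hs s ⟨l, B.hLH l.2⟩ _ rfl]
      exact ha
    rw [hconst] at h1
    obtain ⟨x, hx⟩ := exists_conjFun_eq_of_constituent (B.L.subgroupOf B.H) hψ
      (IsIrr.comp hθ e.toMonoidHom e.surjective)
      (IsIrr.comp (IsIrr.comp hθ (B.σL s) (B.σL_surjective s)) e.toMonoidHom e.surjective)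
      (by have := ha; rw [hconst] at this; exact this) h1
    refine ⟨(x : G), x.2, funext fun l => ?_⟩
    exact congrFun hx ⟨⟨(l : G), B.hLH l.2⟩, l.2⟩
  have hfix : ∀ s, B.tw θ s = θ := by
    intro s
    obtain ⟨l, hl, h⟩ := B.twist_mem (X := B.H) (Y := B.L) (fun s g hg => B.symm_mem_H s hg) htw
      B.hLH s
    rw [h, B.conjFun_mem (IsIrr.isClassFunction hθ) hl]
  exact ⟨⟨θ, hθ, hfix⟩, ha⟩

theorem above_of_mult {χ : G → ℂ} (hχ : Cfsg.IsIrrCharacter G χ) {ψ : B.H → ℂ}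
    (hψ : Cfsg.IsIrrCharacter B.H ψ) (hm : B.OddMult χ ψ) {θ : B.L → ℂ}
    (hθ : Cfsg.IsIrrCharacter B.L θ) (ha : B.AboveH ψ θ) : B.Above χ θ := by
  obtain ⟨m, hm, hodd⟩ := hm
  obtain ⟨r, hr, her⟩ := IsChar.exists_eq_add (IsChar.res (IsIrr.isCharacter hχ) B.H) hψ
    (by rw [hm, Nat.cast_ne_zero]; rintro rfl; exact Nat.not_odd_zero hodd)
  have hL : (fun l : B.L => χ l) = B.resL ψ + B.resL r :=
    funext fun l => congrFun her ⟨l, B.hLH l.2⟩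
  obtain ⟨i, hi⟩ := classInner_isChar_nat
    (IsChar.comp (IsIrr.isCharacter hψ) (Subgroup.inclusion B.hLH)) (IsIrr.isCharacter hθ)
  obtain ⟨j, hj⟩ := classInner_isChar_nat
    (IsChar.comp hr (Subgroup.inclusion B.hLH)) (IsIrr.isCharacter hθ)
  have hi' : Cfsg.classInner (B.resL ψ) θ = (i : ℂ) := hi
  have hj' : Cfsg.classInner (B.resL r) θ = (j : ℂ) := hj
  rw [Above, hL, classInner_add_left, hi', hj', ← Nat.cast_add, Nat.cast_ne_zero]
  rw [AboveH, hi', Nat.cast_ne_zero] at ha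
  omega

theorem aboveH_transfer {χ : G → ℂ} (hχ : Cfsg.IsIrrCharacter G χ) (P : B.Pt)
    (ha : B.Above χ P.θ) {ψ : B.H → ℂ} (hψ : Cfsg.IsIrrCharacter B.H ψ) (hs : B.SInvH ψ)
    (hm : B.OddMult χ ψ) : B.AboveH ψ P.θ := by
  obtain ⟨Q, hQ⟩ := B.exists_pt_H hψ hs
  obtain ⟨g, hg⟩ := exists_conjFun_eq_of_constituent B.L hχ P.irr Q.irr ha
    (B.above_of_mult hχ hψ hm Q.irr hQ)
  obtain ⟨h, hh, k, hk, rfl⟩ := B.hgen g
  rw [← conjFun_mul] at hg
  have hinv := B.conjFun_H_inv P.class_θ P.fix hh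
  have he := B.conjFun_K_eq (IsIrr.isClassFunction (isIrrCharacter_conjFun B.L P.irr h)) hinv hk
    fun s => by rw [← hg]; exact Q.fix s
  rw [he] at hg
  rw [AboveH, hg] at hQ
  have hcl : conjFun B.L (B.resL ψ) h = B.resL ψ := by
    funext l
    simp only [conjFun, resL]
    rw [← IsIrr.isClassFunction hψ ⟨(l : G), B.hLH l.2⟩ ⟨h, hh⟩]
    congr 1
  rw [AboveH]
  rwa [← hcl, classInner_conjFun_conjFun] at hQ

/-- The full correspondence. -/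
theorem main :
    (∀ χ : Cfsg.IrrCharacter G, B.SInv χ →
      ∃! ψ : Cfsg.IrrCharacter B.H, B.SInvH ψ ∧ B.OddMult χ ψ) ∧
    (∀ χ χ' : Cfsg.IrrCharacter G, B.SInv χ → B.SInv χ' → ∀ ψ : Cfsg.IrrCharacter B.H,
      B.SInvH ψ → B.OddMult χ ψ → B.OddMult χ' ψ → χ = χ') ∧
    (∀ ψ : Cfsg.IrrCharacter B.H, B.SInvH ψ →
      ∃ χ : Cfsg.IrrCharacter G, B.SInv χ ∧ B.OddMult χ ψ) := by
  refine ⟨fun χ hs => ?_, fun χ χ' hs hs' ψ hψs hm hm' => ?_, fun ψ hψs => ?_⟩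
  · obtain ⟨P, hP⟩ := B.exists_pt χ.2 hs
    obtain ⟨ψ, hψ, hψs, hm, huniq⟩ := P.exists_image χ.2 hP hs
    exact ⟨⟨ψ, hψ⟩, ⟨hψs, hm⟩, fun ψ' h' => Subtype.ext
      (huniq ψ' ψ'.2 (B.aboveH_transfer χ.2 P hP ψ'.2 h'.1 h'.2) h'.2)⟩
  · obtain ⟨P, hP⟩ := B.exists_pt_H ψ.2 hψs
    exact Subtype.ext (P.image_inj χ.2 χ'.2 (B.above_of_mult χ.2 ψ.2 hm P.irr hP)
      (B.above_of_mult χ'.2 ψ.2 hm' P.irr hP) hs hs' ψ.2 hP hm hm')
  · obtain ⟨P, hP⟩ := B.exists_pt_H ψ.2 hψs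
    obtain ⟨χ, hχ, hs, hm⟩ := P.exists_preimage ψ.2 hP hψs
    exact ⟨⟨χ, hχ⟩, hs, hm⟩

end Base

section Shrink

variable (L K C : Subgroup G) [hLn : L.Normal] [hKn : K.Normal] (σ : S →* MulAut G)

omit [Fintype G] [Fintype S] in
theorem symm_mem_of {X : Subgroup G} (hX : ∀ s, ∀ x ∈ X, σ s x ∈ X) (s : S) {x : G} (hx : x ∈ X) :
    (σ s).symm x ∈ X := by
  rw [← MulAut.inv_def, ← map_inv]
  exact hX _ _ hx

/-- Replacing `K` by its fixed point free part yields a `Base`. -/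
theorem exists_base (hLK : L ≤ K) (hab : ∀ a ∈ K, ∀ b ∈ K, a * b * a⁻¹ * b⁻¹ ∈ L)
    (hLS : ∀ s, ∀ l ∈ L, σ s l ∈ L) (hKS : ∀ s, ∀ k ∈ K, σ s k ∈ K)
    (hC : ∀ s, ∀ c ∈ C, σ s c = c)
    (hlift : ∀ k ∈ K, (∀ s, k⁻¹ * σ s k ∈ L) → ∃ c ∈ C, k⁻¹ * c ∈ L)
    (hgen : K ⊔ C = ⊤) (hodd : Odd (Nat.card G)) (hcop : (Nat.card S).Coprime (Nat.card G)) :
    ∃ B : Base G S, B.σ = σ ∧ B.H = L ⊔ C := by
  let A : Subgroup (G ⧸ L) := K.map (QuotientGroup.mk' L)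
  have hcomm : ∀ a b : A, a * b = b * a := by
    rintro ⟨-, a, ha, rfl⟩ ⟨-, b, hb, rfl⟩
    refine Subtype.ext ?_
    have h : ((a * b * a⁻¹ * b⁻¹ : G) : G ⧸ L) = 1 :=
      (QuotientGroup.eq_one_iff _).2 (hab a ha b hb)
    simp only [QuotientGroup.mk_mul, QuotientGroup.mk_inv] at h
    rw [Subgroup.coe_mul, Subgroup.coe_mul]
    simp only [QuotientGroup.mk'_apply]
    rwa [← mul_inv_eq_one, mul_inv_rev, ← mul_assoc]
  letI : CommGroup A := { (inferInstance : Group A) with mul_comm := hcomm }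
  let ν : K →* A :=
    { toFun := fun k => ∏ s : S, (⟨(σ s k : G ⧸ L), σ s k, hKS s k k.2, rfl⟩ : A)
      map_one' := Finset.prod_eq_one fun s _ => Subtype.ext (by simp)
      map_mul' := fun a b => by
        rw [← Finset.prod_mul_distrib]
        exact Finset.prod_congr rfl fun s _ => Subtype.ext (by simp) }
  let K' : Subgroup G := ν.ker.map K.subtype
  have hmem : ∀ k (hk : k ∈ K), k ∈ K' ↔ ν ⟨k, hk⟩ = 1 := by
    intro k hk
    refine ⟨fun h => ?_, fun h => ⟨⟨k, hk⟩, h, rfl⟩⟩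
    obtain ⟨y, hy, hyk⟩ := h
    have : y = (⟨k, hk⟩ : K) := Subtype.ext hyk
    rw [← this]
    exact hy
  have hK'K : K' ≤ K := by
    rintro _ ⟨y, -, rfl⟩
    exact y.2
  have hνfix : ∀ k (hk : k ∈ K), (∀ s, k⁻¹ * σ s k ∈ L) →
      (ν ⟨k, hk⟩ : G ⧸ L) = (k : G ⧸ L) ^ Fintype.card S := by
    intro k hk h
    show ((∏ s : S, _ : A) : G ⧸ L) = _
    rw [Finset.prod_congr rfl fun s _ => show
      (⟨(σ s k : G ⧸ L), σ s k, hKS s k hk, rfl⟩ : A) = ⟨(k : G ⧸ L), k, hk, rfl⟩ from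
        Subtype.ext (QuotientGroup.eq.2 (h s)).symm, Finset.prod_const, Finset.card_univ,
      SubmonoidClass.coe_pow]
  have hνσ : ∀ t k (hk : k ∈ K), ν ⟨σ t k, hKS t k hk⟩ = ν ⟨k, hk⟩ := by
    intro t k hk
    refine Fintype.prod_equiv (Equiv.mulRight t) _ _ fun s => Subtype.ext ?_
    simp [map_mul, MulAut.mul_apply]
  haveI hAn : A.Normal := hKn.map (QuotientGroup.mk' L) (QuotientGroup.mk'_surjective L)
  have hconjC : ∀ c ∈ C, ∀ k (hk : k ∈ K), ν ⟨k, hk⟩ = 1 →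
      ν ⟨c * k * c⁻¹, hKn.conj_mem k hk c⟩ = 1 := by
    intro c hc k hk h1
    let φ : A →* A := ((MulAut.conjNormal (c : G ⧸ L) : MulAut A)).toMonoidHom
    have h2 : ν ⟨c * k * c⁻¹, hKn.conj_mem k hk c⟩ = φ (ν ⟨k, hk⟩) := by
      show _ = φ (∏ s : S, _)
      rw [map_prod]
      refine Finset.prod_congr rfl fun s _ => Subtype.ext ?_
      simp [φ, hC s c hc, MulAut.conjNormal_apply]
    rw [h2, h1, map_one]
  have hnormal : K'.Normal := by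
    refine ⟨fun x hx g => ?_⟩
    have hxK := hK'K hx
    have hg : g ∈ K ⊔ C := hgen ▸ Subgroup.mem_top g
    rw [Subgroup.mem_sup_of_normal_left] at hg
    obtain ⟨a, ha, c, hc, rfl⟩ := hg
    have h1 := hconjC c hc x hxK ((hmem x hxK).1 hx)
    rw [show a * c * x * (a * c)⁻¹ = a * (c * x * c⁻¹) * a⁻¹ by group,
      hmem _ (hKn.conj_mem _ (hKn.conj_mem x hxK c) a),
      show (⟨a * (c * x * c⁻¹) * a⁻¹, hKn.conj_mem _ (hKn.conj_mem x hxK c) a⟩ : K) =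
        ⟨a, ha⟩ * ⟨c * x * c⁻¹, hKn.conj_mem x hxK c⟩ * ⟨a, ha⟩⁻¹ from rfl,
      map_mul, map_mul, map_inv, h1, mul_one, mul_inv_cancel]
  have hLH : L ≤ L ⊔ C := le_sup_left
  have hHfix : ∀ s, ∀ h ∈ L ⊔ C, h⁻¹ * σ s h ∈ L := by
    intro s h hh
    rw [Subgroup.mem_sup_of_normal_left] at hh
    obtain ⟨l, hl, c, hc, rfl⟩ := hh
    rw [map_mul, hC s c hc, show (l * c)⁻¹ * (σ s l * c) = c⁻¹ * (l⁻¹ * σ s l) * c⁻¹⁻¹ by group]
    exact hLn.conj_mem _ (L.mul_mem (L.inv_mem hl) (hLS s l hl)) c⁻¹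
  have hpowA : ∀ q : A, q ^ Nat.card G = 1 := by
    intro q
    obtain ⟨k, -, hk⟩ := q.2
    exact Subtype.ext (by
      rw [SubmonoidClass.coe_pow, ← hk, ← map_pow, pow_card_eq_one', map_one]; rfl)
  have hco : (Fintype.card S).Coprime (Nat.card G) := Nat.card_eq_fintype_card (α := S) ▸ hcop
  have hfix : ∀ k ∈ K', (∀ s, k⁻¹ * σ s k ∈ L) → k ∈ L := by
    intro k hk hs
    have hkK := hK'K hk
    have h1 := hνfix k hkK hs
    rw [(hmem k hkK).1 hk, OneMemClass.coe_one] at h1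
    have h2 : (k : G ⧸ L) ^ Nat.card G = 1 := by
      rw [← QuotientGroup.mk_pow, pow_card_eq_one', QuotientGroup.mk_one]
    have h3 := pow_gcd_eq_one.2 ⟨h1.symm, h2⟩
    rwa [hco, pow_one, QuotientGroup.eq_one_iff] at h3
  have hLK' : L ≤ K' := by
    intro l hl
    rw [hmem l (hLK hl)]
    refine Subtype.ext ?_
    rw [hνfix l (hLK hl) fun s => L.mul_mem (L.inv_mem hl) (hLS s l hl),
      (QuotientGroup.eq_one_iff l).2 hl, one_pow]
    rfl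
  have hgen' : ∀ g : G, ∃ h ∈ L ⊔ C, ∃ k ∈ K', g = h * k := by
    intro g
    have hg : g ∈ C ⊔ K := by rw [sup_comm, hgen]; exact Subgroup.mem_top g
    rw [Subgroup.mem_sup_of_normal_right] at hg
    obtain ⟨c, hc, k, hk, rfl⟩ := hg
    obtain ⟨z, hz, hzν⟩ := (ν ⟨k, hk⟩).2
    have hzfix : ∀ t, z⁻¹ * σ t z ∈ L := by
      intro t
      let ψ : G ⧸ L →* G ⧸ L :=
        QuotientGroup.map L L ((σ t : G ≃* G).toMonoidHom) fun l hl => hLS t l hl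
      have h1 : ((σ t z : G) : G ⧸ L) = (z : G ⧸ L) := by
        show ψ (QuotientGroup.mk' L z) = QuotientGroup.mk' L z
        rw [hzν]
        show ψ ((∏ s : S, _ : A) : G ⧸ L) = ((∏ s : S, _ : A) : G ⧸ L)
        rw [← Subgroup.coe_subtype, ← MonoidHom.comp_apply]
        let φ : A →* A := (ψ.comp A.subtype).codRestrict A fun q => by
          obtain ⟨y, hy, hyq⟩ := q.2
          exact ⟨σ t y, hKS t y hy, by
            rw [MonoidHom.comp_apply, Subgroup.coe_subtype, ← hyq]; rfl⟩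
        show ((φ (∏ s : S, _) : A) : G ⧸ L) = _
        refine congrArg Subtype.val ?_
        rw [map_prod]
        refine Fintype.prod_equiv (Equiv.mulLeft t) _ _ fun s => Subtype.ext ?_
        simp [φ, ψ, map_mul, MulAut.mul_apply]
      exact QuotientGroup.eq.1 h1.symm
    obtain ⟨c₀, hc₀, hc₀z⟩ := hlift z hz hzfix
    have hc₀K : c₀ ∈ K := by simpa using K.mul_mem hz (hLK hc₀z)
    obtain ⟨j, hj⟩ : ∃ j, (ν ⟨k, hk⟩ ^ Fintype.card S) ^ j = ν ⟨k, hk⟩ :=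
      exists_pow_eq_self_of_coprime (hco.coprime_dvd_right (orderOf_dvd_of_pow_eq_one (hpowA _)))
    refine ⟨c * c₀ ^ j, Subgroup.mem_sup_right (C.mul_mem hc (C.pow_mem hc₀ j)),
      (c₀ ^ j)⁻¹ * k, ?_, by group⟩
    rw [hmem _ (K.mul_mem (K.inv_mem (K.pow_mem hc₀K j)) hk)]
    have hνc : ν ⟨c₀, hc₀K⟩ = ν ⟨k, hk⟩ ^ Fintype.card S := by
      refine Subtype.ext ?_
      rw [hνfix c₀ hc₀K fun s => by rw [hC s c₀ hc₀, inv_mul_cancel]; exact L.one_mem,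
        SubmonoidClass.coe_pow, ← hzν, QuotientGroup.mk'_apply]
      congr 1
      exact QuotientGroup.eq.2 (by simpa using L.inv_mem hc₀z)
    rw [show (⟨(c₀ ^ j)⁻¹ * k, _⟩ : K) = ((⟨c₀, hc₀K⟩ : K) ^ j)⁻¹ * ⟨k, hk⟩ from rfl,
      map_mul, map_inv, map_pow, hνc, hj, inv_mul_cancel]
  exact ⟨{ L := L, hn := hLn, K := K', H := L ⊔ C, hKn := hnormal, hLK := hLK', hLH := hLH
           hinf := fun x hx hxH => hfix x hx fun s => hHfix s x hxH
           hgen := hgen'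
           hab := fun a ha b hb => hab a (hK'K ha) b (hK'K hb)
           σ := σ, hLS := hLS
           hKS := fun s k hk => (hmem _ (hKS s k (hK'K hk))).2
             ((hνσ s k (hK'K hk)).trans ((hmem k (hK'K hk)).1 hk))
           hHS := hHfix, hfix := hfix, hodd := hodd, hcop := hcop }, rfl, rfl⟩

end Shrink

end Cfsg.Agent.H35.Odd
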