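import Cfsg.Agent.H35.Odd.Canonical
import Mathlib.LinearAlgebra.Matrix.Trace
import Mathlib.Analysis.Complex.Polynomial.Basic

/-!
# The inversion operator and its trace
-/

noncomputable section

namespace Cfsg.Agent.H35.Odd

open Cfsg.Agent.CharBasic
open scoped Classical

universe u v w

variable {G : Type u} [Group G] [Fintype G] {S : Type v} [Group S] [Fintype S] (D : Setup G S)

namespace Setup

/-- The idempotent of the trivial character of the radical. -/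
def e₁ : MonoidAlgebra ℂ G := (Fintype.card D.P : ℂ)⁻¹ • ∑ p : D.P, D.V (p : D.A)

theorem card_P_ne : (Fintype.card D.P : ℂ) ≠ 0 := Nat.cast_ne_zero.2 Fintype.card_ne_zero

theorem card_A_ne : (Fintype.card D.A : ℂ) ≠ 0 := Nat.cast_ne_zero.2 Fintype.card_ne_zero

theorem e₁_mul_V {p : D.A} (hp : p ∈ D.P) : D.e₁ * D.V p = D.e₁ := by
  rw [e₁, smul_mul_assoc, Finset.sum_mul]
  congr 1
  refine Fintype.sum_equiv (Equiv.mulRight ⟨p, hp⟩) _ _ fun q => ?_
  rw [V_mul, hp q, one_smul]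
  rfl

theorem e₁_mul_e : D.e₁ * D.e = D.e₁ := by rw [← V_one, D.e₁_mul_V D.P.one_mem]

theorem e₁_mul_e₁ : D.e₁ * D.e₁ = D.e₁ := by
  conv_lhs => arg 2; rw [e₁]
  rw [mul_smul_comm, Finset.mul_sum, Finset.sum_congr rfl fun p _ => D.e₁_mul_V p.2,
    Finset.sum_const, Finset.card_univ, ← Nat.cast_smul_eq_nsmul ℂ, inv_smul_smul₀ D.card_P_ne]

theorem V_mul_inv (q : D.A) : D.V q * D.V q⁻¹ = D.e := by
  rw [V_mul, mul_inv_cancel, eta_inv_right, eta_self, one_smul, V_one]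

theorem V_inv_mul (q : D.A) : D.V q⁻¹ * D.V q = D.e := by
  rw [V_mul, inv_mul_cancel, eta_inv_left, eta_self, one_smul, V_one]

/-- A radical lift commutes with everything supported on the section. -/
theorem V_P_comm {p : D.A} (hp : p ∈ D.P) (q : D.A) {y : MonoidAlgebra ℂ G}
    (hy : ∀ x, y.coeff x ≠ 0 → (x : G ⧸ D.L) = q) (hye : y * D.e = y) :
    D.V p * y = y * D.V p := by
  have hz : ∀ x, (y * D.V q⁻¹).coeff x ≠ 0 → x ∈ D.L := by
    intro x hx
    obtain ⟨a, b, ha, hb, rfl⟩ := exists_coeff_ne_of_mul hx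
    rw [← QuotientGroup.eq_one_iff, QuotientGroup.mk_mul, hy a ha, (D.isLift_V q⁻¹).supp b hb]
    simp
  have hy' : y = (y * D.V q⁻¹) * D.V q := by rw [mul_assoc, V_inv_mul, hye]
  have hzc : D.V p * (y * D.V q⁻¹) = (y * D.V q⁻¹) * D.V p := by
    rw [D.eq_sum_of_supp hz, Finset.mul_sum, Finset.sum_mul]
    refine Finset.sum_congr rfl fun l _ => ?_
    rw [mul_smul_comm, smul_mul_assoc, (D.isLift_V p).comm]
  have hqc : D.V p * D.V q = D.V q * D.V p := by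
    rw [V_mul, V_mul, hp q, D.eta_P_left hp, mul_comm p]
  rw [hy', ← mul_assoc, hzc, mul_assoc, hqc, ← mul_assoc]

theorem aq_surjective {α : MulAut G} (hα : D.Good α) : Function.Surjective hα.aq := by
  intro q
  obtain ⟨x, hx⟩ := QuotientGroup.mk_surjective (q : G ⧸ D.L)
  have hn : (α : MulAut G) ^ (orderOf α) = 1 := pow_orderOf_eq_one α
  have key : ∀ (n : ℕ) (r : D.A), (((hα.aq)^[n] r : D.A) : G ⧸ D.L) =
      (hα.qmap)^[n] (r : G ⧸ D.L) := by
    intro n r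
    induction n with
    | zero => rfl
    | succ n ih => rw [Function.iterate_succ_apply', Function.iterate_succ_apply', ← ih]; rfl
  have key2 : ∀ (n : ℕ) (g : G),
      (hα.qmap)^[n] (g : G ⧸ D.L) = (((α ^ n) g : G) : G ⧸ D.L) := by
    intro n g
    induction n with
    | zero => rfl
    | succ n ih => rw [Function.iterate_succ_apply', ih, pow_succ', MulAut.mul_apply]; rfl
  obtain ⟨m, hm⟩ := Nat.exists_eq_succ_of_ne_zero (orderOf_pos α).ne'
  refine ⟨(hα.aq)^[m] q, Subtype.ext ?_⟩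
  rw [← Function.iterate_succ_apply' (hα.aq : D.A → D.A), key, ← hx, key2, ← hm, hn]
  rfl

theorem aq_mem_P {α : MulAut G} (hα : D.Good α)
    (h : ∀ q, bMap hα.act (D.can q) = D.can (hα.aq q)) {p : D.A} (hp : p ∈ D.P) :
    hα.aq p ∈ D.P := by
  intro r
  obtain ⟨r', rfl⟩ := D.aq_surjective hα r
  rw [D.eta_aq hα h]
  exact hp r'

theorem amap_e₁ {α : MulAut G} (hα : D.Good α)
    (h : ∀ q, bMap hα.act (D.can q) = D.can (hα.aq q)) : amap α D.e₁ = D.e₁ := by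
  rw [e₁, map_smul, map_sum]
  congr 1
  let f : D.P → D.P := fun p => ⟨hα.aq (p : D.A), D.aq_mem_P hα h p.2⟩
  have hinj : Function.Injective f := fun a b hab =>
    Subtype.ext ((Finite.injective_iff_surjective.2 (D.aq_surjective hα))
      (congrArg Subtype.val hab))
  rw [← (Finite.injective_iff_bijective.1 hinj).sum_comp fun p : D.P => D.V (p : D.A)]
  exact Finset.sum_congr rfl fun p _ => D.amap_V hα h _

omit [Fintype S] in
theorem comm_of_amap_conj {g : G} {y : MonoidAlgebra ℂ G} (h : amap (MulAut.conj g) y = y) :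
    δ g * y = y * δ g := by
  conv_rhs => rw [← h, amap_conj, mul_assoc, δ_mul, inv_mul_cancel, δ_one, mul_one]

theorem δ_H_e₁ {h : G} (hh : h ∈ D.H) : δ h * D.e₁ = D.e₁ * δ h :=
  comm_of_amap_conj (D.amap_e₁ (D.good_conj h) (D.bMap_can_conj hh))

theorem δ_K_V {k : G} (hk : k ∈ D.K) {p : D.A} (hp : p ∈ D.P) :
    δ k * D.V p = D.V p * δ k := by
  have hsupp : ∀ x, (δ k * D.e).coeff x ≠ 0 → (x : G ⧸ D.L) = (k : G ⧸ D.L) := by
    intro x hx
    rw [coeff_δ_mul] at hx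
    have := D.isLift_e.supp _ hx
    rw [QuotientGroup.mk_mul, QuotientGroup.mk_inv, inv_mul_eq_one] at this
    exact this.symm
  have h := D.V_P_comm hp ⟨(k : G ⧸ D.L), k, hk, rfl⟩ hsupp (by rw [mul_assoc, D.e_mul_e])
  rw [mul_assoc, (D.isLift_V p).e_mul, ← mul_assoc, mul_assoc, D.δ_mul_e, ← mul_assoc,
    (D.isLift_V p).mul_e] at h
  exact h.symm

theorem δ_e₁ (g : G) : δ g * D.e₁ = D.e₁ * δ g := by
  obtain ⟨h, hh, k, hk, rfl⟩ := D.hgen g
  have hK : δ k * D.e₁ = D.e₁ * δ k := by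
    rw [e₁, mul_smul_comm, smul_mul_assoc, Finset.mul_sum, Finset.sum_mul]
    exact congrArg _ (Finset.sum_congr rfl fun p _ => D.δ_K_V hk p.2)
  rw [← δ_mul, mul_assoc, hK, ← mul_assoc, D.δ_H_e₁ hh, mul_assoc]

theorem exists_normaliser :
    ∃ c : ℂ, c ^ 2 = ((Fintype.card D.A : ℂ) * (Fintype.card D.P : ℂ))⁻¹ :=
  IsAlgClosed.exists_pow_nat_eq _ two_pos

/-- The inversion operator. -/
def T : MonoidAlgebra ℂ G := D.exists_normaliser.choose • D.T₀

theorem T_mul_T : D.T * D.T = D.e₁ := by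
  rw [T, smul_mul_smul_comm, ← sq, D.exists_normaliser.choose_spec, T₀_mul_T₀, smul_smul, e₁]
  congr 1
  field_simp [D.card_A_ne, D.card_P_ne]

theorem T_mul_V (a : D.A) : D.T * D.V a = D.V a⁻¹ * D.T := by
  rw [T, smul_mul_assoc, T₀_mul_V, mul_smul_comm]

theorem amap_T {α : MulAut G} (hα : D.Good α)
    (h : ∀ q, bMap hα.act (D.can q) = D.can (hα.aq q)) : amap α D.T = D.T := by
  rw [T, map_smul, T₀, map_sum, Finset.sum_congr rfl fun q _ => D.amap_V hα h q,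
    D.sum_aq hα D.V]

theorem δ_H_T {h : G} (hh : h ∈ D.H) : δ h * D.T = D.T * δ h :=
  comm_of_amap_conj (D.amap_T (D.good_conj h) (D.bMap_can_conj hh))

theorem V_mul_δ {h : G} (hh : h ∈ D.H) (q : D.A) :
    D.V q * δ h = δ h * D.V ((D.good_conj h⁻¹).aq q) := by
  rw [← D.amap_V (D.good_conj h⁻¹) (D.bMap_can_conj (inv_mem hh)), amap_conj, inv_inv,
    ← mul_assoc, ← mul_assoc, δ_mul, mul_inv_cancel, δ_one, one_mul]

/-- The class of a representative in `K`. -/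
def rep (u : D.A) : G := u.2.choose

theorem rep_mem (u : D.A) : D.rep u ∈ D.K := u.2.choose_spec.1

theorem rep_mk (u : D.A) : (D.rep u : G ⧸ D.L) = (u : G ⧸ D.L) := u.2.choose_spec.2

theorem bijective_prod :
    Function.Bijective fun p : D.H × D.A => (p.1 : G) * D.rep p.2 := by
  constructor
  · rintro ⟨h, u⟩ ⟨h', u'⟩ e
    simp only at e
    have e' : (h' : G)⁻¹ * h = D.rep u' * (D.rep u)⁻¹ := by
      rw [inv_mul_eq_iff_eq_mul, ← mul_assoc, ← e, mul_inv_cancel_right]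
    have hL := D.hinf _ (D.K.mul_mem (D.rep_mem u') (D.K.inv_mem (D.rep_mem u)))
      (e' ▸ D.H.mul_mem (D.H.inv_mem h'.2) h.2)
    have hu : u = u' := by
      apply Subtype.ext
      rw [← QuotientGroup.eq_one_iff, QuotientGroup.mk_mul, QuotientGroup.mk_inv,
        mul_inv_eq_one, rep_mk, rep_mk] at hL
      exact hL.symm
    subst hu
    exact Prod.ext (Subtype.ext (mul_right_cancel e)) rfl
  · intro g
    obtain ⟨h, hh, k, hk, rfl⟩ := D.hgen g
    let u : D.A := ⟨(k : G ⧸ D.L), k, hk, rfl⟩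
    have hl : k * (D.rep u)⁻¹ ∈ D.L := by
      rw [← QuotientGroup.eq_one_iff, QuotientGroup.mk_mul, QuotientGroup.mk_inv, rep_mk]
      exact mul_inv_cancel _
    exact ⟨(⟨h * (k * (D.rep u)⁻¹), D.H.mul_mem hh (D.hLH hl)⟩, u), by
      simp [mul_assoc]⟩

theorem card_G_eq : Nat.card G = Nat.card D.H * Fintype.card D.A := by
  rw [← Nat.card_eq_of_bijective _ D.bijective_prod, Nat.card_prod,
    Nat.card_eq_fintype_card (α := D.A)]

section Rep

variable {ι : Type w} [Fintype ι] [DecidableEq ι]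
  (Φ : MonoidAlgebra ℂ G →ₐ[ℂ] Matrix ι ι ℂ)

/-- The trace in `Φ`. -/
def tr (y : MonoidAlgebra ℂ G) : ℂ := (Φ y).trace

omit [Fintype S] in
theorem tr_comm (x y : MonoidAlgebra ℂ G) : tr Φ (x * y) = tr Φ (y * x) := by
  rw [tr, tr, map_mul, map_mul, Matrix.trace_mul_comm]

omit [Fintype S] in
theorem tr_smul (c : ℂ) (x : MonoidAlgebra ℂ G) : tr Φ (c • x) = c * tr Φ x := by
  rw [tr, tr, map_smul, Matrix.trace_smul, smul_eq_mul]

omit [Fintype S] in
theorem tr_sum {κ : Type*} (s : Finset κ) (f : κ → MonoidAlgebra ℂ G) :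
    tr Φ (∑ i ∈ s, f i) = ∑ i ∈ s, tr Φ (f i) := by
  simp only [tr, map_sum, Matrix.trace_sum]

omit [Fintype S] in
theorem tr_pair_supp {b : MonoidAlgebra ℂ G} (hb : ∀ x, b.coeff x ≠ 0 → x ∈ D.L)
    (Z W : MonoidAlgebra ℂ G) :
    ∑ l : D.L, tr Φ (Z * δ (l : G) * b) * tr Φ (δ (l : G)⁻¹ * W) =
      ∑ l : D.L, tr Φ (Z * δ (l : G)) * tr Φ (δ (l : G)⁻¹ * W * b) := by
  conv_lhs => rw [D.eq_sum_of_supp hb]
  conv_rhs => rw [D.eq_sum_of_supp hb]
  simp only [Finset.mul_sum, tr_sum, mul_smul_comm, tr_smul, Finset.sum_mul]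
  rw [Finset.sum_comm]
  conv_rhs => rw [Finset.sum_comm]
  refine Finset.sum_congr rfl fun m _ => ?_
  refine Fintype.sum_equiv (Equiv.mulRight m) _ _ fun l => ?_
  simp only [Equiv.coe_mulRight, Subgroup.coe_mul, mul_inv_rev]
  rw [mul_assoc Z, δ_mul, tr_comm Φ (_ * W) (δ (m : G)), ← mul_assoc (δ (m : G)), δ_mul, mul_inv_cancel_left]
  ring

variable (hΦ : Φ D.e₁ = 1)

include hΦ

theorem map_e : Φ D.e = 1 := by
  have h := congrArg Φ D.e₁_mul_e
  rwa [map_mul, hΦ, one_mul] at h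

theorem tr_e_mul (y : MonoidAlgebra ℂ G) : tr Φ (D.e * y) = tr Φ y := by
  rw [tr, tr, map_mul, D.map_e Φ hΦ, one_mul]

theorem tr_mul_e (y : MonoidAlgebra ℂ G) : tr Φ (y * D.e) = tr Φ y := by
  rw [tr_comm, D.tr_e_mul Φ hΦ]

theorem tr_mul_e₁ (y : MonoidAlgebra ℂ G) : tr Φ (y * D.e₁) = tr Φ y := by
  rw [tr, tr, map_mul, hΦ, mul_one]

omit hΦ in
theorem tr_pair_T (Z W : MonoidAlgebra ℂ G) :
    ∑ u : D.A, tr Φ (D.T * Z * D.V u) * tr Φ (D.V u⁻¹ * W) =
      ∑ u : D.A, tr Φ (Z * D.V u) * tr Φ (D.V u⁻¹ * W * D.T) := by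
  simp only [T, T₀, Finset.smul_sum, Finset.sum_mul, Finset.mul_sum, tr_sum, mul_smul_comm,
    smul_mul_assoc, tr_smul]
  rw [Finset.sum_comm]
  conv_rhs => rw [Finset.sum_comm]
  refine Finset.sum_congr rfl fun a _ => ?_
  refine Fintype.sum_equiv (Equiv.mulRight a) _ _ fun u => ?_
  simp only [Equiv.coe_mulRight, mul_inv_rev]
  rw [mul_assoc (D.V a), tr_comm Φ (D.V a), mul_assoc Z, V_mul, mul_smul_comm, tr_smul,
    tr_comm Φ (_ * W) (D.V a), ← mul_assoc (D.V a), V_mul, mul_inv_cancel_left, smul_mul_assoc, tr_smul]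
  simp only [eta_mul_right, eta_inv_right, eta_self]
  ring

theorem tr_T_mul {h : G} (hh : h ∈ D.H) :
    tr Φ (D.T * δ h) * tr Φ (D.T * δ h⁻¹) = (Fintype.card D.A : ℂ)⁻¹ *
      ∑ u : D.A, tr Φ (δ h * D.V u) * tr Φ (D.V u⁻¹ * δ h⁻¹) := by
  set X := D.T * δ h with hX
  set X' := δ h⁻¹ * D.T with hX'
  let g : D.A → ℂ := fun u => tr Φ (X * D.V u) * tr Φ (D.V u⁻¹ * X')
  let c := (D.good_conj h⁻¹).aq
  have hg : ∀ u w : D.A, g (u * w) =
      tr Φ (X * (D.V u * D.V w)) * tr Φ (D.V w⁻¹ * D.V u⁻¹ * X') := by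
    intro u w
    simp only [g, V_mul, mul_smul_comm, smul_mul_assoc, tr_smul, mul_inv_rev]
    rw [show D.eta w⁻¹ u⁻¹ = D.eta w u by rw [eta_inv_left, eta_inv_left]]
    linear_combination (-(tr Φ (X * D.V (u * w)) * tr Φ (D.V (w⁻¹ * u⁻¹) * X'))) *
      D.eta_swap u w
  have h1 : ∀ w : D.A, D.V w * X = X * D.V (c w)⁻¹ := by
    intro w
    have e1 : D.V w * D.T = D.T * D.V w⁻¹ := by rw [D.T_mul_V, inv_inv]
    rw [hX, ← mul_assoc, e1, mul_assoc, D.V_mul_δ hh, ← mul_assoc, map_inv]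
  have h2 : ∀ w : D.A, X' * D.V w⁻¹ = D.V (c w) * X' := by
    intro w
    rw [hX', mul_assoc, D.T_mul_V, inv_inv, ← mul_assoc, ← mul_assoc]
    congr 1
    show δ h⁻¹ * D.V w = _
    rw [← D.amap_V (D.good_conj h⁻¹) (D.bMap_can_conj (inv_mem hh)), amap_conj, inv_inv,
      mul_assoc, δ_mul, mul_inv_cancel, δ_one, mul_one]
  have hshift : ∀ u w : D.A, g (u * w) = g ((c w)⁻¹ * u) := by
    intro u w
    rw [hg, hg]
    congr 1
    · rw [← mul_assoc, tr_comm, ← mul_assoc, h1, mul_assoc]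
    · rw [mul_assoc, tr_comm, mul_assoc, h2, ← mul_assoc, inv_inv]
  have hinj : Function.Injective fun w : D.A => (c w * w)⁻¹ := by
    intro a b hab
    simp only [inv_inj] at hab
    have hd : c (a * b⁻¹) = (a * b⁻¹)⁻¹ := by
      rw [eq_inv_iff_mul_eq_one, map_mul, map_inv, mul_mul_mul_comm, hab, ← mul_inv, mul_inv_cancel]
    obtain ⟨x, hx⟩ := QuotientGroup.mk_surjective ((a * b⁻¹ : D.A) : G ⧸ D.L)
    have hd' := congrArg Subtype.val hd
    simp only [c, Good.aq_coe, Subgroup.coe_inv, ← hx, Good.qmap_mk, MulAut.conj_apply, inv_inv,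
      QuotientGroup.mk_mul, QuotientGroup.mk_inv] at hd'
    set y := (x : G ⧸ D.L)
    set z := (h : G ⧸ D.L)
    have hz2 : Commute (z ^ 2) y := by
      have e1 : y * z = z * y⁻¹ := by rw [← hd']; group
      have e2 : y⁻¹ * z = z * y := by
        have := congrArg (fun t => y⁻¹ * t * y) e1
        simp only [← mul_assoc, inv_mul_cancel, one_mul, inv_mul_cancel_right] at this
        exact this.symm
      show z ^ 2 * y = y * z ^ 2
      rw [sq, ← mul_assoc y, e1, mul_assoc z y⁻¹ z, e2, mul_assoc]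
    obtain ⟨m, hm⟩ : Odd (o (G := G)) := D.hodd
    have hz : Commute z y := by
      have hzz : (z ^ 2) ^ (m + 1) = z := by
        rw [← pow_mul, show 2 * (m + 1) = o (G := G) + 1 by omega, pow_succ, D.pow_o, one_mul]
      exact hzz ▸ hz2.pow_left _
    have hy : y = y⁻¹ := by
      rw [← hd', mul_assoc, ← hz.eq, inv_mul_cancel_left]
    have hy1 : y = 1 := by
      have h3 := D.pow_o y
      have h4 : y ^ 2 = 1 := by rw [sq]; nth_rw 2 [hy]; exact mul_inv_cancel y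
      rwa [hm, pow_succ, pow_mul, h4, one_pow, one_mul] at h3
    have hab1 : a * b⁻¹ = 1 := Subtype.ext (by rw [← hx]; exact hy1)
    exact mul_inv_eq_one.1 hab1
  have hconst : ∀ u : D.A, g u = g 1 := by
    intro u
    obtain ⟨w, rfl⟩ := (Finite.injective_iff_surjective.1 hinj) u
    have := hshift w⁻¹ w
    rw [inv_mul_cancel, ← mul_inv] at this
    exact this.symm
  have hsum : ∑ u : D.A, g u = ∑ u : D.A, tr Φ (δ h * D.V u) * tr Φ (D.V u⁻¹ * δ h⁻¹) := by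
    simp only [g, hX]
    rw [D.tr_pair_T Φ (δ h) X']
    refine Finset.sum_congr rfl fun u _ => ?_
    rw [hX', mul_assoc (D.V u⁻¹), mul_assoc (δ h⁻¹), D.T_mul_T, ← mul_assoc,
      D.tr_mul_e₁ Φ hΦ]
  rw [← hsum, Finset.sum_congr rfl fun u _ => hconst u, Finset.sum_const, Finset.card_univ,
    nsmul_eq_mul, ← mul_assoc, inv_mul_cancel₀ D.card_A_ne, one_mul]
  simp only [g, inv_one, V_one]
  rw [D.tr_mul_e Φ hΦ, D.tr_e_mul Φ hΦ, hX', tr_comm Φ (δ h⁻¹)]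

theorem tr_coset (h : G) (u : D.A) :
    ∑ l : D.L, tr Φ (δ (h * l) * D.V u) * tr Φ (D.V u⁻¹ * δ (h * l)⁻¹) =
      ∑ l : D.L, tr Φ (δ (h * l * D.rep u)) * tr Φ (δ (h * l * D.rep u)⁻¹) := by
  set k := D.rep u with hk
  set b := D.V u * δ k⁻¹ with hb
  have hbs : ∀ x, b.coeff x ≠ 0 → x ∈ D.L := by
    intro x hx
    rw [hb, coeff_mul_δ, inv_inv] at hx
    have h1 := (D.isLift_V u).supp _ hx
    rw [QuotientGroup.mk_mul, hk, rep_mk, mul_eq_right] at h1
    exact (QuotientGroup.eq_one_iff x).1 h1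
  have h2 := D.tr_pair_supp Φ hbs (δ k * δ h) (δ h⁻¹ * D.V u⁻¹)
  have hL : ∀ l : D.L, tr Φ (δ (h * l) * D.V u) * tr Φ (D.V u⁻¹ * δ (h * l)⁻¹) =
      tr Φ (δ k * δ h * δ (l : G) * b) * tr Φ (δ (l : G)⁻¹ * (δ h⁻¹ * D.V u⁻¹)) := by
    intro l
    congr 1
    · rw [hb, tr_comm Φ (δ k * δ h * δ (l : G)), mul_assoc, ← mul_assoc (δ k⁻¹), ← mul_assoc (δ k⁻¹),
        δ_mul, inv_mul_cancel, δ_one, one_mul, δ_mul, tr_comm]
    · rw [← mul_assoc, tr_comm Φ _ (D.V u⁻¹), mul_inv_rev, δ_mul]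
  have hR : ∀ l : D.L, tr Φ (δ k * δ h * δ (l : G)) *
      tr Φ (δ (l : G)⁻¹ * (δ h⁻¹ * D.V u⁻¹) * b) =
      tr Φ (δ (h * l * k)) * tr Φ (δ (h * l * k)⁻¹) := by
    intro l
    congr 1
    · rw [mul_assoc, δ_mul, tr_comm, δ_mul]
    · have e : δ (l : G)⁻¹ * (δ h⁻¹ * D.V u⁻¹) * b = δ ((l : G)⁻¹ * h⁻¹ * k⁻¹) * D.e := by
        rw [hb, mul_assoc (δ (l : G)⁻¹), mul_assoc (δ h⁻¹), ← mul_assoc (D.V u⁻¹), V_inv_mul,
          ← D.δ_mul_e, ← mul_assoc, ← mul_assoc, δ_mul, δ_mul]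
      rw [e, D.tr_mul_e Φ hΦ, ← δ_mul, tr_comm, δ_mul]
      congr 2
      group
  rw [Finset.sum_congr rfl fun l _ => hL l, h2, Finset.sum_congr rfl fun l _ => hR l]

/-- The trace of the inversion operator has the same norm as the character. -/
theorem norm_tr :
    (Nat.card D.H : ℂ)⁻¹ * ∑ h : D.H, tr Φ (D.T * δ (h : G)) * tr Φ (D.T * δ (h : G)⁻¹) =
      (Nat.card G : ℂ)⁻¹ * ∑ g : G, tr Φ (δ g) * tr Φ (δ g⁻¹) := by
  have hsum : ∑ h : D.H, ∑ u : D.A, tr Φ (δ (h : G) * D.V u) * tr Φ (D.V u⁻¹ * δ (h : G)⁻¹) =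
      ∑ g : G, tr Φ (δ g) * tr Φ (δ g⁻¹) := by
    rw [← D.bijective_prod.sum_comp fun g => tr Φ (δ g) * tr Φ (δ g⁻¹), Fintype.sum_prod_type,
      Finset.sum_comm]
    conv_rhs => rw [Finset.sum_comm]
    refine Finset.sum_congr rfl fun u _ => ?_
    refine mul_left_cancel₀ D.card_L_ne ?_
    have havg : ∀ F : G → ℂ, (Nat.card D.L : ℂ) * ∑ h : D.H, F h =
        ∑ h : D.H, ∑ l : D.L, F ((h : G) * l) := by
      intro F
      rw [Finset.sum_comm, Nat.card_eq_fintype_card, ← nsmul_eq_mul, ← Finset.card_univ,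
        ← Finset.sum_const]
      refine Finset.sum_congr rfl fun l _ => ?_
      exact (Fintype.sum_equiv (Equiv.mulRight (⟨(l : G), D.hLH l.2⟩ : D.H)) _ _ fun h => rfl).symm
    rw [havg fun x => tr Φ (δ x * D.V u) * tr Φ (D.V u⁻¹ * δ x⁻¹),
      havg fun x => tr Φ (δ (x * D.rep u)) * tr Φ (δ (x * D.rep u)⁻¹)]
    exact Finset.sum_congr rfl fun h _ => D.tr_coset Φ hΦ h u
  rw [Finset.sum_congr rfl fun (h : D.H) _ => D.tr_T_mul Φ hΦ h.2, ← Finset.mul_sum, hsum,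
    D.card_G_eq, Nat.cast_mul, mul_inv, mul_assoc]

/-- The square of the trace at the identity. -/
theorem tr_T_sq :
    tr Φ D.T * tr Φ D.T * (Fintype.card D.A : ℂ) =
      (Fintype.card D.P : ℂ) * (tr Φ 1 * tr Φ 1) := by
  have h := D.tr_T_mul Φ hΦ D.H.one_mem
  simp only [inv_one, δ_one, mul_one, one_mul] at h
  rw [h, mul_comm, ← mul_assoc, mul_inv_cancel₀ D.card_A_ne, one_mul]
  have h0 : ∀ u : D.A, u ∉ D.P → tr Φ (D.V u) = 0 := by
    intro u hu
    rw [mem_P] at hu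
    push Not at hu
    obtain ⟨r, hr⟩ := hu
    have e1 : tr Φ (D.V r * D.V u * D.V r⁻¹) = tr Φ (D.V u) := by
      rw [tr_comm, ← mul_assoc, V_inv_mul, D.tr_e_mul Φ hΦ]
    rw [V_mul, smul_mul_assoc, tr_smul, V_mul, tr_smul, mul_comm r u, mul_inv_cancel_right,
      ← mul_assoc, eta_inv_right, eta_mul_right, eta_self, mul_one] at e1
    have hne : D.eta r u * D.eta r u ≠ 1 := fun h' => hr (D.eta_sq_eq_one
      (mul_left_cancel₀ (D.eta_ne r u) (h'.trans (D.eta_swap r u).symm)))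
    by_contra hz
    exact hne ((mul_eq_right₀ hz).1 e1)
  have h1 : ∀ u : D.A, u ∈ D.P → tr Φ (D.V u) = tr Φ 1 := by
    intro u hu
    have e1 := congrArg Φ (D.e₁_mul_V hu)
    rw [map_mul, hΦ, one_mul] at e1
    rw [tr, tr, e1, map_one]
  rw [Finset.sum_congr rfl fun u (_ : u ∈ Finset.univ) =>
    (show tr Φ (D.V u) * tr Φ (D.V u⁻¹) = if u ∈ D.P then tr Φ 1 * tr Φ 1 else 0 by
      split_ifs with hu
      · rw [h1 u hu, h1 u⁻¹ (inv_mem hu)]
      · rw [h0 u hu, zero_mul])]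
  rw [← Finset.sum_filter, Finset.sum_const, nsmul_eq_mul]
  congr 2
  rw [Fintype.card_subtype]

end Rep

end Setup

end Cfsg.Agent.H35.Odd
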